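import Mathlib
import Cfsg.Agent.Helper3.CosetCert

/-!
# The Heisenberg group of order 27 and a recognition lemma

`H27` is a concrete model of the extraspecial group `3^{1+2}_+` of exponent `3`.
`c648_card_le_27`: a group generated by `a, b` with `a³ = b³ = (ab)³ = (ab²)³ = 1` has at most
`27` elements.  `c648_h27_lift`: for any `a, b` in a group with these relations there is a
homomorphism `H27 →* G` with `hA ↦ a`, `hB ↦ b`.
-/

set_option autoImplicit false

namespace Cfsg.Agent.Sp43C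

open Cfsg.Agent.Helper3.CosetCert

/-- the Heisenberg group of order 27 -/
structure H27 where
  /-- first coordinate -/
  x : Fin 3
  /-- second coordinate -/
  y : Fin 3
  /-- central coordinate -/
  s : Fin 3
deriving DecidableEq, Fintype

namespace H27

instance : Mul H27 := ⟨fun g h => ⟨g.x + h.x, g.y + h.y, g.s + h.s + g.x * h.y⟩⟩
instance : One H27 := ⟨⟨0, 0, 0⟩⟩
instance : Inv H27 := ⟨fun g => ⟨-g.x, -g.y, -g.s + g.x * g.y⟩⟩

theorem mul_def (g h : H27) : g * h = ⟨g.x + h.x, g.y + h.y, g.s + h.s + g.x * h.y⟩ := rfl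
theorem one_def : (1 : H27) = ⟨0, 0, 0⟩ := rfl
theorem inv_def (g : H27) : g⁻¹ = ⟨-g.x, -g.y, -g.s + g.x * g.y⟩ := rfl

set_option maxRecDepth 100000 in
theorem mul_assoc' : ∀ a b c : H27, a * b * c = a * (b * c) := by decide +kernel

theorem one_mul' : ∀ a : H27, 1 * a = a := by decide

theorem inv_mul' : ∀ a : H27, a⁻¹ * a = 1 := by decide

instance : Group H27 := Group.ofLeftAxioms mul_assoc' one_mul' inv_mul'

end H27

/-- first generator -/
def hA : H27 := ⟨1, 0, 0⟩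
/-- second generator -/
def hB : H27 := ⟨0, 1, 0⟩

theorem c648_card_H27 : Nat.card H27 = 27 := by
  rw [Nat.card_eq_fintype_card]
  decide

def h27ActTab : List (List ℕ) :=
  [[1, 2],
   [3, 4],
   [5, 6],
   [0, 7],
   [8, 9],
   [10, 11],
   [12, 0],
   [13, 14],
   [15, 16],
   [17, 1],
   [2, 17],
   [14, 18],
   [16, 19],
   [20, 21],
   [22, 3],
   [4, 22],
   [6, 23],
   [21, 24],
   [23, 5],
   [24, 20],
   [7, 12],
   [9, 25],
   [11, 26],
   [25, 8],
   [26, 10],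
   [18, 13],
   [19, 15]]

def h27WordTab : List (List (Fin 2)) :=
  [[],
   [0],
   [1],
   [0, 0],
   [0, 1],
   [1, 0],
   [1, 1],
   [0, 0, 1],
   [0, 1, 0],
   [0, 1, 1],
   [1, 0, 0],
   [1, 0, 1],
   [1, 1, 0],
   [0, 0, 1, 0],
   [0, 0, 1, 1],
   [0, 1, 0, 0],
   [0, 1, 0, 1],
   [0, 1, 1, 0],
   [1, 0, 1, 1],
   [1, 1, 0, 1],
   [0, 0, 1, 0, 0],
   [0, 0, 1, 0, 1],
   [0, 0, 1, 1, 0],
   [0, 1, 0, 1, 1],
   [0, 1, 1, 0, 1],
   [0, 0, 1, 0, 1, 1],
   [0, 0, 1, 1, 0, 1]]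

def h27Cert : List (Fin 27 × List (Fin 2) × Fin 2 × List (Fin 2)) :=
  [(0, [0, 0], 0, []),
   (0, [1, 1], 1, []),
   (0, [0, 1, 0, 1], 0, [1]),
   (1, [1, 1], 1, []),
   (1, [0, 1, 0, 1], 0, [1]),
   (2, [0, 0], 0, []),
   (3, [1, 1], 1, []),
   (3, [0, 1, 0, 1], 0, [1]),
   (4, [0, 0], 0, []),
   (5, [1, 1], 1, []),
   (6, [0], 0, [0]),
   (7, [0, 0], 0, []),
   (7, [0, 1, 1], 0, [1, 1, 0, 1, 1]),
   (8, [1, 1], 1, []),
   (9, [0], 0, [0]),
   (9, [0, 1], 1, [0, 1, 1, 0, 1, 1]),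
   (10, [], 1, [1, 1]),
   (10, [0, 1, 0, 1], 0, [1]),
   (11, [0, 0], 0, []),
   (13, [1, 1], 1, []),
   (13, [0], 1, [1, 0, 1, 1, 0, 1, 1]),
   (14, [0, 1], 1, [0, 1, 1, 0, 1, 1]),
   (15, [], 1, [1, 1]),
   (15, [0, 1, 0, 1], 0, [1]),
   (16, [0, 1, 1, 0, 1, 1], 0, [1, 1]),
   (18, [0], 0, [0]),
   (19, [0, 0], 0, []),
   (19, [], 1, [1, 1])]

/-- The table as a function. -/
def h27Act : Fin 27 → Fin 2 → Fin 27 := fun ω s =>
  ⟨((h27ActTab.getD ω.val []).getD s.val 0) % 27, Nat.mod_lt _ (by norm_num)⟩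

/-- The spanning tree words. -/
def h27Word : Fin 27 → List (Fin 2) := fun ω => h27WordTab.getD ω.val []

/-- The relators as positive words. -/
def h27R : List (List (Fin 2)) :=
  [[0, 0, 0], [1, 1, 1], [0, 1, 0, 1, 0, 1], [0, 1, 1, 0, 1, 1, 0, 1, 1]]

set_option maxRecDepth 100000 in
theorem h27_cert_ok : ∀ e : Fin 27 × Fin 2, e ∈ run h27Act h27R (treeEdges h27Act h27Word) h27Cert := by
  decide +kernel

/-- A group generated by `a, b` with `a³ = b³ = (ab)³ = (ab²)³ = 1` has order at most `27`. -/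
theorem c648_card_le_27 {G : Type*} [Group G] (a b : G) (ha : a ^ 3 = 1) (hb : b ^ 3 = 1)
    (hab : (a * b) ^ 3 = 1) (hab2 : (a * b * b) ^ 3 = 1)
    (hgen : Subgroup.closure ({a, b} : Set G) = ⊤) : Finite G ∧ Nat.card G ≤ 27 := by
  have hgen' : Subgroup.closure (Set.range ![a, b]) = ⊤ := by
    rw [← hgen]
    congr 1
    ext x
    simp only [Set.mem_range, Set.mem_insert_iff, Set.mem_singleton_iff]
    constructor
    · rintro ⟨j, rfl⟩
      fin_cases j
      · left; rfl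
      · right; rfl
    · rintro (rfl | rfl)
      · exact ⟨0, rfl⟩
      · exact ⟨1, rfl⟩
  refine card_le_of_cert ![a, b] hgen' h27Act h27Word 0 (by decide) h27R ?_ h27Cert h27_cert_ok
  intro r hr
  simp only [h27R, List.mem_cons, List.not_mem_nil, or_false] at hr
  rcases hr with rfl | rfl | rfl | rfl
  · simpa [prodL, pow_succ, mul_assoc] using ha
  · simpa [prodL, pow_succ, mul_assoc] using hb
  · simpa [prodL, pow_succ, mul_assoc] using hab
  · simpa [prodL, pow_succ, mul_assoc] using hab2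

theorem c648_h27_rels : hA ^ 3 = 1 ∧ hB ^ 3 = 1 ∧ (hA * hB) ^ 3 = 1 ∧ (hA * hB * hB) ^ 3 = 1 := by
  decide

theorem c648_h27_normal_form : ∀ h : H27, ∃ k l m : Fin 3,
    h = hA ^ k.val * hB ^ l.val * (hA * hB * hA⁻¹ * hB⁻¹) ^ m.val := by
  decide

theorem c648_h27_gen : Subgroup.closure ({hA, hB} : Set H27) = ⊤ := by
  rw [eq_top_iff]
  intro h _
  obtain ⟨k, l, m, rfl⟩ := c648_h27_normal_form h
  have hA' : hA ∈ Subgroup.closure ({hA, hB} : Set H27) := Subgroup.subset_closure (by simp)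
  have hB' : hB ∈ Subgroup.closure ({hA, hB} : Set H27) := Subgroup.subset_closure (by simp)
  exact mul_mem (mul_mem (pow_mem hA' _) (pow_mem hB' _))
    (pow_mem (mul_mem (mul_mem (mul_mem hA' hB') (inv_mem hA')) (inv_mem hB')) _)

/-- von Dyck for `H27`, by the graph trick. -/
theorem c648_h27_lift {G : Type*} [Group G] (a b : G) (ha : a ^ 3 = 1) (hb : b ^ 3 = 1)
    (hab : (a * b) ^ 3 = 1) (hab2 : (a * b * b) ^ 3 = 1) :
    ∃ φ : H27 →* G, φ hA = a ∧ φ hB = b := by
  classical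
  obtain ⟨rA, rB, rAB, rAB2⟩ := c648_h27_rels
  let K : Subgroup (H27 × G) := Subgroup.closure {((hA, a) : H27 × G), (hB, b)}
  have hmemA : ((hA, a) : H27 × G) ∈ K := Subgroup.subset_closure (by simp)
  have hmemB : ((hB, b) : H27 × G) ∈ K := Subgroup.subset_closure (by simp)
  let u : K := ⟨(hA, a), hmemA⟩
  let v : K := ⟨(hB, b), hmemB⟩
  have hu : u ^ 3 = 1 := by
    apply Subtype.ext
    show ((hA, a) : H27 × G) ^ 3 = 1
    rw [Prod.pow_mk, rA, ha]; rfl
  have hv : v ^ 3 = 1 := by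
    apply Subtype.ext
    show ((hB, b) : H27 × G) ^ 3 = 1
    rw [Prod.pow_mk, rB, hb]; rfl
  have huv : (u * v) ^ 3 = 1 := by
    apply Subtype.ext
    show (((hA, a) : H27 × G) * (hB, b)) ^ 3 = 1
    rw [Prod.mk_mul_mk, Prod.pow_mk, rAB, hab]; rfl
  have huv2 : (u * v * v) ^ 3 = 1 := by
    apply Subtype.ext
    show (((hA, a) : H27 × G) * (hB, b) * (hB, b)) ^ 3 = 1
    rw [Prod.mk_mul_mk, Prod.mk_mul_mk, Prod.pow_mk, rAB2, hab2]; rfl
  have hgenK : Subgroup.closure ({u, v} : Set K) = ⊤ := by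
    have h1 : (Subgroup.closure ({u, v} : Set K)).map K.subtype = K := by
      rw [MonoidHom.map_closure]
      congr 1
      ext x
      simp only [Set.image_insert_eq, Set.image_singleton, Set.mem_insert_iff,
        Set.mem_singleton_iff]
      rfl
    rw [eq_top_iff]
    intro k _
    have hk : K.subtype k ∈ (Subgroup.closure ({u, v} : Set K)).map K.subtype := by
      rw [h1]; exact k.2
    obtain ⟨k', hk', hkk⟩ := hk
    have : k' = k := K.subtype_injective hkk
    rwa [this] at hk'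
  obtain ⟨hfin, hcard⟩ := c648_card_le_27 u v hu hv huv huv2 hgenK
  let p1 : K →* H27 := (MonoidHom.fst H27 G).comp K.subtype
  let p2 : K →* G := (MonoidHom.snd H27 G).comp K.subtype
  have hsurj : Function.Surjective p1 := by
    rw [← MonoidHom.range_eq_top, eq_top_iff, ← c648_h27_gen, Subgroup.closure_le]
    intro x hx
    simp only [Set.mem_insert_iff, Set.mem_singleton_iff] at hx
    rcases hx with rfl | rfl
    · exact ⟨u, rfl⟩
    · exact ⟨v, rfl⟩
  have hbij : Function.Bijective p1 :=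
    hsurj.bijective_of_nat_card_le (by rw [c648_card_H27]; exact hcard)
  let e : K ≃* H27 := MulEquiv.ofBijective p1 hbij
  refine ⟨p2.comp e.symm.toMonoidHom, ?_, ?_⟩
  · have : e.symm hA = u := by
      rw [MulEquiv.symm_apply_eq]; rfl
    show p2 (e.symm hA) = a
    rw [this]; rfl
  · have : e.symm hB = v := by
      rw [MulEquiv.symm_apply_eq]; rfl
    show p2 (e.symm hB) = b
    rw [this]; rfl

end Cfsg.Agent.Sp43C
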