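import Mathlib
import Cfsg.Agent.Helper3.CosetCert

/-!
# Facts about `SL₂(3)` used for the recognition of `3^{1+2}:SL₂(3)`
-/

set_option autoImplicit false

namespace Cfsg.Agent.Sp43C

open Cfsg.Agent.Helper3.CosetCert

/-- `SL₂(3)` -/
abbrev SL23 : Type := Matrix.SpecialLinearGroup (Fin 2) (ZMod 3)

/-- the central involution of `SL₂(3)` -/
def sM1 : SL23 := ⟨!![2, 0; 0, 2], by decide⟩

set_option maxRecDepth 100000 in
theorem c648_card_SL23 : Nat.card SL23 = 24 := by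
  rw [Nat.card_eq_fintype_card]
  decide +kernel

set_option maxRecDepth 100000 in
theorem c648_sl_two_squares : ∀ g : SL23, ∃ x y : SL23, g = x * x * (y * y) := by
  decide +kernel

set_option maxRecDepth 100000 in
theorem c648_sl_exists_i : ∀ g0 : SL23, g0 ^ 3 = 1 → g0 ≠ 1 →
    ∃ i0 : SL23, i0 ^ 4 = 1 ∧ (i0 * g0) ^ 3 = i0 ^ 2 ∧ i0 ^ 2 = sM1 := by
  decide +kernel

set_option maxRecDepth 100000 in
theorem c648_sl_m1 : (∀ g : SL23, g * sM1 = sM1 * g) ∧ sM1 ≠ 1 ∧ sM1 ^ 2 = 1 := by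
  decide +kernel

set_option maxRecDepth 100000 in
theorem c648_sl_normal_closure : ∀ h : SL23, h ≠ 1 →
    h = sM1 ∨ h ^ 2 = sM1 ∨ h ^ 3 = sM1 ∨ ∃ x : SL23, (x * h * x⁻¹ * h⁻¹) ^ 2 = sM1 := by
  decide +kernel

def s24ActTab : List (List ℕ) :=
  [[1, 2],
   [3, 4],
   [5, 6],
   [7, 8],
   [9, 10],
   [8, 11],
   [12, 0],
   [0, 13],
   [14, 15],
   [13, 12],
   [16, 1],
   [10, 17],
   [15, 18],
   [19, 20],
   [2, 16],
   [21, 3],
   [20, 22],
   [23, 5],
   [17, 9],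
   [4, 21],
   [11, 7],
   [6, 23],
   [18, 14],
   [22, 19]]

def s24WordTab : List (List (Fin 2)) :=
  [[],
   [0],
   [1],
   [0, 0],
   [0, 1],
   [1, 0],
   [1, 1],
   [0, 0, 0],
   [0, 0, 1],
   [0, 1, 0],
   [0, 1, 1],
   [1, 0, 1],
   [1, 1, 0],
   [0, 0, 0, 1],
   [0, 0, 1, 0],
   [0, 0, 1, 1],
   [0, 1, 1, 0],
   [1, 0, 1, 1],
   [1, 1, 0, 1],
   [0, 0, 0, 1, 0],
   [0, 0, 0, 1, 1],
   [0, 0, 1, 1, 0],
   [0, 1, 1, 0, 1],
   [1, 0, 1, 1, 0]]

def s24Cert : List (Fin 24 × List (Fin 2) × Fin 2 × List (Fin 2)) :=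
  [(0, [0, 0, 0], 0, []),
   (0, [1, 1], 1, []),
   (1, [1, 1], 1, []),
   (3, [1, 1], 1, []),
   (5, [1, 1], 1, []),
   (7, [1, 1], 1, []),
   (7, [0, 1, 0, 1], 0, [1, 0, 0]),
   (16, [], 0, [1, 0, 1, 0, 1, 0, 0]),
   (20, [], 0, [0, 0, 0]),
   (1, [0, 1, 0], 1, [0, 1, 0, 0]),
   (2, [0, 1, 0, 1, 0, 1, 0], 0, []),
   (5, [], 0, [0, 0, 0]),
   (14, [1, 1], 1, []),
   (14, [0, 1, 0, 1], 0, [1, 0, 0]),
   (23, [], 0, [1, 0, 1, 0, 1, 0, 0]),
   (5, [0, 1, 0], 1, [0, 1, 0, 0]),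
   (6, [0, 1, 0, 1, 0, 1, 0], 0, []),
   (12, [], 0, [0, 0, 0]),
   (12, [0, 1, 0, 1, 0], 1, [0, 0]),
   (13, [0, 1, 0, 1, 0, 1, 0], 0, []),
   (17, [0, 0], 0, [0]),
   (19, [], 0, [0, 0, 0]),
   (19, [1, 1], 1, []),
   (19, [0, 1, 0, 1, 0], 1, [0, 0]),
   (21, [0, 1, 0, 1, 0], 1, [0, 0])]

/-- The table as a function. -/
def s24Act : Fin 24 → Fin 2 → Fin 24 := fun ω s =>
  ⟨((s24ActTab.getD ω.val []).getD s.val 0) % 24, Nat.mod_lt _ (by norm_num)⟩

/-- The spanning tree words. -/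
def s24Word : Fin 24 → List (Fin 2) := fun ω => s24WordTab.getD ω.val []

/-- The relators as positive words. -/
def s24R : List (List (Fin 2)) :=
  [[0, 0, 0, 0], [1, 1, 1], [0, 1, 0, 1, 0, 1, 0, 0]]

set_option maxRecDepth 100000 in
theorem s24_cert_ok : ∀ e : Fin 24 × Fin 2, e ∈ run s24Act s24R (treeEdges s24Act s24Word) s24Cert := by
  decide +kernel

/-- A group generated by `i, d` with `i⁴ = d³ = 1`, `(id)³ = i²` has order at most `24`. -/
theorem c648_card_le_24 {G : Type*} [Group G] (i d : G) (hi : i ^ 4 = 1) (hd : d ^ 3 = 1)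
    (hid : (i * d) ^ 3 = i ^ 2)
    (hgen : Subgroup.closure ({i, d} : Set G) = ⊤) : Finite G ∧ Nat.card G ≤ 24 := by
  have hgen' : Subgroup.closure (Set.range ![i, d]) = ⊤ := by
    rw [← hgen]
    congr 1
    ext x
    simp only [Set.mem_range, Set.mem_insert_iff, Set.mem_singleton_iff]
    constructor
    · rintro ⟨j, rfl⟩
      fin_cases j
      · left; rfl
      · right; rfl
    · rintro (rfl | rfl)
      · exact ⟨0, rfl⟩
      · exact ⟨1, rfl⟩
  refine card_le_of_cert ![i, d] hgen' s24Act s24Word 0 (by decide) s24R ?_ s24Cert s24_cert_ok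
  intro r hr
  simp only [s24R, List.mem_cons, List.not_mem_nil, or_false] at hr
  rcases hr with rfl | rfl | rfl
  · simpa [prodL, pow_succ, mul_assoc] using hi
  · simpa [prodL, pow_succ, mul_assoc] using hd
  · have h1 : (i * d) ^ 3 * i ^ 2 = 1 := by
      rw [hid, ← pow_add]; exact hi
    simpa [prodL, pow_succ, mul_assoc] using h1

set_option maxRecDepth 100000 in
theorem c648_sl_conj3 : ∀ g0 h : SL23, g0 ^ 3 = 1 → g0 ≠ 1 → h ^ 3 = 1 → h ≠ 1 →
    ∃ x : SL23, h = x * g0 * x⁻¹ ∨ h = x * g0⁻¹ * x⁻¹ := by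
  decide +kernel

/-- generation of `SL₂(3)` by an element of order 4 and an element of order 3 -/
theorem c648_sl_gen (i0 g0 : SL23) (hi4 : i0 ^ 4 = 1) (hi2 : i0 ^ 2 = sM1) (hg3 : g0 ^ 3 = 1)
    (hg1 : g0 ≠ 1) : Subgroup.closure ({i0, g0} : Set SL23) = ⊤ := by
  classical
  set H : Subgroup SL23 := Subgroup.closure ({i0, g0} : Set SL23) with hH
  have hiH : i0 ∈ H := Subgroup.subset_closure (by simp)
  have hgH : g0 ∈ H := Subgroup.subset_closure (by simp)
  have ho4 : orderOf i0 = 4 := by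
    have := orderOf_eq_prime_pow (x := i0) (p := 2) (n := 1)
      (by rw [pow_one, hi2]; exact c648_sl_m1.2.1) (by simpa using hi4)
    simpa using this
  have ho3 : orderOf g0 = 3 := orderOf_eq_prime hg3 hg1
  have h4 : 4 ∣ Nat.card H := by
    have := Subgroup.orderOf_dvd_natCard H hiH
    rwa [ho4] at this
  have h3 : 3 ∣ Nat.card H := by
    have := Subgroup.orderOf_dvd_natCard H hgH
    rwa [ho3] at this
  have h12 : 12 ∣ Nat.card H := by
    have : Nat.Coprime 4 3 := by norm_num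
    exact this.mul_dvd_of_dvd_of_dvd h4 h3
  have hdvd : Nat.card H ∣ 24 := by
    rw [← c648_card_SL23]; exact Subgroup.card_subgroup_dvd_card H
  have hidx := H.card_mul_index
  rw [c648_card_SL23] at hidx
  obtain ⟨c, hc⟩ := h12
  have hcpos : 0 < c := by
    rcases Nat.eq_zero_or_pos c with h | h
    · rw [h, mul_zero] at hc
      have : Nat.card H ≠ 0 := Nat.card_pos.ne'
      exact absurd hc this
    · exact h
  have hc2 : c ≤ 2 := by
    have := Nat.le_of_dvd (by norm_num) hdvd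
    omega
  have hc12 : c = 1 ∨ c = 2 := by omega
  rcases hc12 with rfl | rfl
  · -- index 2
    have hi2' : H.index = 2 := by
      rw [hc] at hidx; omega
    rw [eq_top_iff]
    intro g _
    obtain ⟨x, y, rfl⟩ := c648_sl_two_squares g
    have hx := Subgroup.sq_mem_of_index_two hi2' x
    have hy := Subgroup.sq_mem_of_index_two hi2' y
    rw [pow_two] at hx hy
    exact mul_mem hx hy
  · have : Nat.card H = Nat.card SL23 := by rw [c648_card_SL23, hc]
    exact H.eq_top_of_card_eq this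

end Cfsg.Agent.Sp43C
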