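import Mathlib
import Cfsg.Agent.Sp43C.H27
import Cfsg.Agent.Sp43C.SL23

/-!
# The relations of `3^{1+2}:SL₂(3)` and the uniqueness of the group they define
-/

set_option autoImplicit false

namespace Cfsg.Agent.Sp43C

/-- The defining relations of `3^{1+2}_+ : SL₂(3)` on generators `a, b` (of the normal
extraspecial subgroup) and `i, d` (of the complement). -/
structure Rel648 {G : Type*} [Group G] (a b i d : G) : Prop where
  a3 : a ^ 3 = 1
  b3 : b ^ 3 = 1
  ab3 : (a * b) ^ 3 = 1
  abb3 : (a * b * b) ^ 3 = 1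
  i4 : i ^ 4 = 1
  d3 : d ^ 3 = 1
  id3 : (i * d) ^ 3 = i ^ 2
  ia : i * a * i⁻¹ = b
  ib : i * b * i⁻¹ = a⁻¹
  da : d * a * d⁻¹ = a
  db : d * b * d⁻¹ = a * b * (a * b * a⁻¹ * b⁻¹)

theorem Rel648.map {G H : Type*} [Group G] [Group H] (f : G →* H) {a b i d : G}
    (h : Rel648 a b i d) : Rel648 (f a) (f b) (f i) (f d) where
  a3 := by rw [← map_pow, h.a3, map_one]
  b3 := by rw [← map_pow, h.b3, map_one]
  ab3 := by rw [← map_mul, ← map_pow, h.ab3, map_one]
  abb3 := by rw [← map_mul, ← map_mul, ← map_pow, h.abb3, map_one]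
  i4 := by rw [← map_pow, h.i4, map_one]
  d3 := by rw [← map_pow, h.d3, map_one]
  id3 := by rw [← map_mul, ← map_pow, h.id3, map_pow]
  ia := by rw [← map_inv, ← map_mul, ← map_mul, h.ia]
  ib := by rw [← map_inv, ← map_mul, ← map_mul, h.ib, map_inv]
  da := by rw [← map_inv, ← map_mul, ← map_mul, h.da]
  db := by
    rw [← map_inv, ← map_mul, ← map_mul, h.db]
    simp only [map_mul, map_inv]

theorem Rel648.of_map {G H : Type*} [Group G] [Group H] (f : G →* H)
    (hf : Function.Injective f) {a b i d : G}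
    (h : Rel648 (f a) (f b) (f i) (f d)) : Rel648 a b i d where
  a3 := hf (by rw [map_pow, h.a3, map_one])
  b3 := hf (by rw [map_pow, h.b3, map_one])
  ab3 := hf (by rw [map_pow, map_mul, h.ab3, map_one])
  abb3 := hf (by rw [map_pow, map_mul, map_mul, h.abb3, map_one])
  i4 := hf (by rw [map_pow, h.i4, map_one])
  d3 := hf (by rw [map_pow, h.d3, map_one])
  id3 := hf (by rw [map_pow, map_mul, h.id3, map_pow])
  ia := hf (by rw [map_mul, map_mul, map_inv, h.ia])
  ib := hf (by rw [map_mul, map_mul, map_inv, h.ib, map_inv])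
  da := hf (by rw [map_mul, map_mul, map_inv, h.da])
  db := hf (by
    rw [map_mul, map_mul, map_inv, h.db]
    simp only [map_mul, map_inv])

theorem Rel648.prod {G H : Type*} [Group G] [Group H] {a b i d : G} {a' b' i' d' : H}
    (h : Rel648 a b i d) (h' : Rel648 a' b' i' d') :
    Rel648 ((a, a') : G × H) (b, b') (i, i') (d, d') where
  a3 := by rw [Prod.pow_mk, h.a3, h'.a3]; rfl
  b3 := by rw [Prod.pow_mk, h.b3, h'.b3]; rfl
  ab3 := by rw [Prod.mk_mul_mk, Prod.pow_mk, h.ab3, h'.ab3]; rfl
  abb3 := by rw [Prod.mk_mul_mk, Prod.mk_mul_mk, Prod.pow_mk, h.abb3, h'.abb3]; rfl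
  i4 := by rw [Prod.pow_mk, h.i4, h'.i4]; rfl
  d3 := by rw [Prod.pow_mk, h.d3, h'.d3]; rfl
  id3 := by rw [Prod.mk_mul_mk, Prod.pow_mk, Prod.pow_mk, h.id3, h'.id3]
  ia := by rw [Prod.inv_mk, Prod.mk_mul_mk, Prod.mk_mul_mk, h.ia, h'.ia]
  ib := by rw [Prod.inv_mk, Prod.mk_mul_mk, Prod.mk_mul_mk, h.ib, h'.ib, Prod.inv_mk]
  da := by rw [Prod.inv_mk, Prod.mk_mul_mk, Prod.mk_mul_mk, h.da, h'.da]
  db := by
    simp only [Prod.inv_mk, Prod.mk_mul_mk, h.db, h'.db]

/-- generators of a closure generate it, seen inside the closure -/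
theorem c648_closure_subtype_top {G : Type*} [Group G] (K : Subgroup G) (S : Set K)
    (h : Subgroup.closure (K.subtype '' S) = K) : Subgroup.closure S = ⊤ := by
  have h1 : (Subgroup.closure S).map K.subtype = K := by
    rw [MonoidHom.map_closure]; exact h
  rw [eq_top_iff]
  intro k _
  have hk : K.subtype k ∈ (Subgroup.closure S).map K.subtype := by
    rw [h1]; exact k.2
  obtain ⟨k', hk', hkk⟩ := hk
  have : k' = k := K.subtype_injective hkk
  rwa [this] at hk'

/-- an element of finite order conjugating a subgroup into itself normalizes it -/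
theorem c648_mem_normalizer {G : Type*} [Group G] (B : Subgroup G) (x : G) (n : ℕ)
    (hx : x ^ (n + 1) = 1) (h : ∀ b ∈ B, x * b * x⁻¹ ∈ B) :
    x ∈ Subgroup.normalizer (B : Set G) := by
  have hpow : ∀ k : ℕ, ∀ b ∈ B, x ^ k * b * (x ^ k)⁻¹ ∈ B := by
    intro k
    induction k with
    | zero => intro b hb; simpa using hb
    | succ k ih =>
      intro b hb
      have := h _ (ih b hb)
      have e : x ^ (k + 1) * b * (x ^ (k + 1))⁻¹ = x * (x ^ k * b * (x ^ k)⁻¹) * x⁻¹ := by
        rw [pow_succ']; group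
      rw [e]; exact this
  have hinv : x⁻¹ = x ^ n := by
    rw [inv_eq_iff_mul_eq_one, ← pow_succ']; exact hx
  rw [Subgroup.mem_normalizer_iff]
  intro b
  constructor
  · exact h b
  · intro hb
    have := hpow n _ hb
    rw [← hinv, inv_inv] at this
    have e : x⁻¹ * (x * b * x⁻¹) * x = b := by group
    rwa [e] at this

/-- **The order bound**: a group generated by `a, b, i, d` subject to `Rel648` has order at
most `648`. -/
theorem c648_bound {G : Type*} [Group G] (a b i d : G) (h : Rel648 a b i d)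
    (hgen : Subgroup.closure ({a, b, i, d} : Set G) = ⊤) : Finite G ∧ Nat.card G ≤ 648 := by
  classical
  set N : Subgroup G := Subgroup.closure ({a, b} : Set G) with hN
  have haN : a ∈ N := Subgroup.subset_closure (by simp)
  have hbN : b ∈ N := Subgroup.subset_closure (by simp)
  -- N has at most 27 elements
  have hN27 : Finite N ∧ Nat.card N ≤ 27 := by
    let u : N := ⟨a, haN⟩
    let v : N := ⟨b, hbN⟩
    have hrel : Rel648 (N.subtype u) (N.subtype v) i d := h
    have hgenN : Subgroup.closure ({u, v} : Set N) = ⊤ := by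
      apply c648_closure_subtype_top
      rw [Set.image_insert_eq, Set.image_singleton]
      exact hN.symm
    refine c648_card_le_27 u v ?_ ?_ ?_ ?_ hgenN
    · exact Subtype.ext (by simpa using h.a3)
    · exact Subtype.ext (by simpa using h.b3)
    · exact Subtype.ext (by simpa using h.ab3)
    · exact Subtype.ext (by simpa using h.abb3)
  obtain ⟨hNfin, hNcard⟩ := hN27
  -- conjugation by each generator maps N into N
  have hconj : ∀ x : G, x * a * x⁻¹ ∈ N → x * b * x⁻¹ ∈ N → ∀ n ∈ N, x * n * x⁻¹ ∈ N := by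
    intro x hxa hxb n hn
    induction hn using Subgroup.closure_induction with
    | mem y hy =>
      simp only [Set.mem_insert_iff, Set.mem_singleton_iff] at hy
      rcases hy with rfl | rfl
      · exact hxa
      · exact hxb
    | one => simp
    | mul y z _ _ hy hz =>
      have e : x * (y * z) * x⁻¹ = (x * y * x⁻¹) * (x * z * x⁻¹) := by group
      rw [e]; exact mul_mem hy hz
    | inv y _ hy =>
      have e : x * y⁻¹ * x⁻¹ = (x * y * x⁻¹)⁻¹ := by group
      rw [e]; exact inv_mem hy
  have hnorm : Subgroup.normalizer (N : Set G) = ⊤ := by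
    rw [eq_top_iff, ← hgen, Subgroup.closure_le]
    intro x hx
    simp only [Set.mem_insert_iff, Set.mem_singleton_iff] at hx
    rcases hx with rfl | rfl | rfl | rfl
    · exact Subgroup.le_normalizer haN
    · exact Subgroup.le_normalizer hbN
    · refine c648_mem_normalizer N x 3 h.i4 (hconj x ?_ ?_)
      · rw [h.ia]; exact hbN
      · rw [h.ib]; exact inv_mem haN
    · refine c648_mem_normalizer N x 2 h.d3 (hconj x ?_ ?_)
      · rw [h.da]; exact haN
      · rw [h.db]
        exact mul_mem (mul_mem haN hbN) (mul_mem (mul_mem (mul_mem haN hbN) (inv_mem haN))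
          (inv_mem hbN))
  have hNn : N.Normal := Subgroup.normalizer_eq_top_iff.mp hnorm
  -- the quotient has at most 24 elements
  have hq : Finite (G ⧸ N) ∧ Nat.card (G ⧸ N) ≤ 24 := by
    have hrel := h.map (QuotientGroup.mk' N)
    refine c648_card_le_24 (QuotientGroup.mk' N i) (QuotientGroup.mk' N d) hrel.i4 hrel.d3
      hrel.id3 ?_
    have hmap : (Subgroup.closure ({a, b, i, d} : Set G)).map (QuotientGroup.mk' N) = ⊤ := by
      rw [hgen, ← MonoidHom.range_eq_map]
      exact MonoidHom.range_eq_top.mpr (QuotientGroup.mk'_surjective N)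
    rw [eq_top_iff, ← hmap, MonoidHom.map_closure, Subgroup.closure_le]
    rintro _ ⟨y, hy, rfl⟩
    simp only [Set.mem_insert_iff, Set.mem_singleton_iff] at hy
    rcases hy with rfl | rfl | rfl | rfl
    · have : QuotientGroup.mk' N y = 1 := (QuotientGroup.eq_one_iff y).mpr haN
      rw [this]; exact one_mem _
    · have : QuotientGroup.mk' N y = 1 := (QuotientGroup.eq_one_iff y).mpr hbN
      rw [this]; exact one_mem _
    · exact Subgroup.subset_closure (by simp)
    · exact Subgroup.subset_closure (by simp)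
  obtain ⟨hqfin, hqcard⟩ := hq
  have hfin : Finite G := Finite.of_subgroup_quotient N
  refine ⟨hfin, ?_⟩
  rw [Subgroup.card_eq_card_quotient_mul_card_subgroup N]
  calc Nat.card (G ⧸ N) * Nat.card N ≤ 24 * 27 := Nat.mul_le_mul hqcard hNcard
    _ = 648 := by norm_num

/-- **Uniqueness**: two groups of order `648` carrying `Rel648`-tuples are isomorphic, as soon as
the first is generated by its tuple and has `⟨[a,b]⟩` as its unique minimal normal subgroup,
while `[a',b'] ≠ 1` in the second. -/
theorem c648_iso {X Y : Type*} [Group X] [Group Y] (a b i d : X) (a' b' i' d' : Y)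
    (hX : Rel648 a b i d) (hY : Rel648 a' b' i' d')
    (hgenX : Subgroup.closure ({a, b, i, d} : Set X) = ⊤)
    (hcX : Nat.card X = 648) (hcY : Nat.card Y = 648)
    (hmin : ∀ N : Subgroup X, N.Normal → N ≠ ⊥ → a * b * a⁻¹ * b⁻¹ ∈ N)
    (hz' : a' * b' * a'⁻¹ * b'⁻¹ ≠ 1) : Nonempty (X ≃* Y) := by
  classical
  have : Finite X := Nat.finite_of_card_ne_zero (by rw [hcX]; norm_num)
  have : Finite Y := Nat.finite_of_card_ne_zero (by rw [hcY]; norm_num)
  let K : Subgroup (X × Y) :=
    Subgroup.closure {((a, a') : X × Y), (b, b'), (i, i'), (d, d')}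
  have hmA : ((a, a') : X × Y) ∈ K := Subgroup.subset_closure (by simp)
  have hmB : ((b, b') : X × Y) ∈ K := Subgroup.subset_closure (by simp)
  have hmI : ((i, i') : X × Y) ∈ K := Subgroup.subset_closure (by simp)
  have hmD : ((d, d') : X × Y) ∈ K := Subgroup.subset_closure (by simp)
  let uA : K := ⟨(a, a'), hmA⟩
  let uB : K := ⟨(b, b'), hmB⟩
  let uI : K := ⟨(i, i'), hmI⟩
  let uD : K := ⟨(d, d'), hmD⟩
  have hrelK : Rel648 uA uB uI uD :=
    Rel648.of_map K.subtype K.subtype_injective (hX.prod hY)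
  have hgenK : Subgroup.closure ({uA, uB, uI, uD} : Set K) = ⊤ := by
    apply c648_closure_subtype_top
    simp only [Set.image_insert_eq, Set.image_singleton]
    rfl
  obtain ⟨hKfin, hKcard⟩ := c648_bound uA uB uI uD hrelK hgenK
  let p1 : K →* X := (MonoidHom.fst X Y).comp K.subtype
  let p2 : K →* Y := (MonoidHom.snd X Y).comp K.subtype
  have hsurj : Function.Surjective p1 := by
    rw [← MonoidHom.range_eq_top, eq_top_iff, ← hgenX, Subgroup.closure_le]
    intro x hx
    simp only [Set.mem_insert_iff, Set.mem_singleton_iff] at hx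
    rcases hx with rfl | rfl | rfl | rfl
    · exact ⟨uA, rfl⟩
    · exact ⟨uB, rfl⟩
    · exact ⟨uI, rfl⟩
    · exact ⟨uD, rfl⟩
  have hbij1 : Function.Bijective p1 :=
    hsurj.bijective_of_nat_card_le (by rw [hcX]; exact hKcard)
  have hKc : Nat.card K = 648 := by
    rw [← hcX]; exact Nat.card_congr (Equiv.ofBijective p1 hbij1)
  have hinj2 : Function.Injective p2 := by
    rw [← MonoidHom.ker_eq_bot_iff]
    by_contra hne
    have hMn : (p2.ker.map p1).Normal := Subgroup.Normal.map inferInstance p1 hsurj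
    have hMne : p2.ker.map p1 ≠ ⊥ := by
      intro hbot
      apply hne
      rw [eq_bot_iff]
      intro k hk
      have : p1 k ∈ p2.ker.map p1 := ⟨k, hk, rfl⟩
      rw [hbot, Subgroup.mem_bot] at this
      rw [Subgroup.mem_bot]
      exact hbij1.1 (by rw [this, map_one])
    obtain ⟨k, hk, hkz⟩ := hmin _ hMn hMne
    have hk' : k = uA * uB * uA⁻¹ * uB⁻¹ := hbij1.1 (by rw [hkz]; rfl)
    rw [hk'] at hk
    apply hz'
    have := MonoidHom.mem_ker.mp hk
    exact this
  have hbij2 : Function.Bijective p2 :=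
    hinj2.bijective_of_nat_card_le (by rw [hcY, hKc])
  exact ⟨(MulEquiv.ofBijective p1 hbij1).symm.trans (MulEquiv.ofBijective p2 hbij2)⟩

end Cfsg.Agent.Sp43C
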