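import Mathlib
import Cfsg.Agent.Sp43C.Bound

/-!
# The relations of `3^{1+2}:SL₂(3)` inside `Sp₄(3)`: explicit matrices over `ZMod 3`
-/

set_option autoImplicit false

namespace Cfsg.Agent.Sp43C

open Matrix

/-- inverse-free form of the relations -/
theorem Rel648.of_pos {G : Type*} [Group G] {a b i d : G} (a3 : a ^ 3 = 1) (b3 : b ^ 3 = 1)
    (ab3 : (a * b) ^ 3 = 1) (abb3 : (a * b * b) ^ 3 = 1) (i4 : i ^ 4 = 1) (d3 : d ^ 3 = 1)
    (id3 : (i * d) ^ 3 = i ^ 2) (ia : i * a = b * i) (ib : a * (i * b) = i)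
    (da : d * a = a * d) (db : d * b = a * b * (a * b * (a * a) * (b * b)) * d) :
    Rel648 a b i d where
  a3 := a3
  b3 := b3
  ab3 := ab3
  abb3 := abb3
  i4 := i4
  d3 := d3
  id3 := id3
  ia := mul_inv_eq_iff_eq_mul.mpr ia
  ib := by
    rw [mul_inv_eq_iff_eq_mul]
    calc i * b = a⁻¹ * (a * (i * b)) := by group
      _ = a⁻¹ * i := by rw [ib]
  da := mul_inv_eq_iff_eq_mul.mpr da
  db := by
    have ha : a⁻¹ = a * a := by
      rw [inv_eq_iff_mul_eq_one]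
      calc a * (a * a) = a ^ 3 := by rw [pow_succ, pow_two, mul_assoc]
        _ = 1 := a3
    have hb : b⁻¹ = b * b := by
      rw [inv_eq_iff_mul_eq_one]
      calc b * (b * b) = b ^ 3 := by rw [pow_succ, pow_two, mul_assoc]
        _ = 1 := b3
    rw [mul_inv_eq_iff_eq_mul, ha, hb]
    exact db

/-- the index type of symplectic `4 × 4` matrices. -/
abbrev J4 : Type := Fin 2 ⊕ Fin 2

/-- the numbering of the coordinates. -/
def c648_num : J4 → ℕ
  | .inl i => i.val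
  | .inr i => 2 + i.val

/-- a matrix over the integers modulo 3 from a table of numbers. -/
def c648_mk (l : List (List ℕ)) : Matrix J4 J4 (ZMod 3) :=
  fun i j => (((l.getD (c648_num i) []).getD (c648_num j) 0 : ℕ) : ZMod 3)

/-- the four generators and the commutator `[a,b]`, as matrices over `ZMod 3`. -/
def mA : Matrix J4 J4 (ZMod 3) := c648_mk [[1, 0, 0, 1], [0, 1, 1, 0], [0, 0, 1, 0], [0, 0, 0, 1]]
/-- second generator -/
def mB : Matrix J4 J4 (ZMod 3) := c648_mk [[1, 2, 0, 0], [0, 1, 0, 0], [0, 0, 1, 0], [0, 0, 1, 1]]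
/-- third generator -/
def mI : Matrix J4 J4 (ZMod 3) := c648_mk [[1, 0, 0, 0], [0, 0, 0, 2], [0, 0, 1, 0], [0, 1, 0, 0]]
/-- fourth generator -/
def mD : Matrix J4 J4 (ZMod 3) := c648_mk [[1, 0, 0, 0], [0, 1, 0, 1], [0, 0, 1, 0], [0, 0, 0, 1]]
/-- the commutator -/
def mZ : Matrix J4 J4 (ZMod 3) := c648_mk [[1, 0, 2, 0], [0, 1, 0, 0], [0, 0, 1, 0], [0, 0, 0, 1]]

set_option maxRecDepth 100000 in
theorem mA_symp : mA * Matrix.J (Fin 2) (ZMod 3) * mA.transpose = Matrix.J (Fin 2) (ZMod 3) := by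
  decide +kernel
set_option maxRecDepth 100000 in
theorem mB_symp : mB * Matrix.J (Fin 2) (ZMod 3) * mB.transpose = Matrix.J (Fin 2) (ZMod 3) := by
  decide +kernel
set_option maxRecDepth 100000 in
theorem mI_symp : mI * Matrix.J (Fin 2) (ZMod 3) * mI.transpose = Matrix.J (Fin 2) (ZMod 3) := by
  decide +kernel
set_option maxRecDepth 100000 in
theorem mD_symp : mD * Matrix.J (Fin 2) (ZMod 3) * mD.transpose = Matrix.J (Fin 2) (ZMod 3) := by
  decide +kernel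

/-- `Sp₄(3)` over the prime field -/
abbrev Sp0 : Type := Matrix.symplecticGroup (Fin 2) (ZMod 3)

/-- the generators in `Sp₄(3)` -/
def sA : Sp0 := ⟨mA, SymplecticGroup.mem_iff.mpr mA_symp⟩
/-- second generator -/
def sB : Sp0 := ⟨mB, SymplecticGroup.mem_iff.mpr mB_symp⟩
/-- third generator -/
def sI : Sp0 := ⟨mI, SymplecticGroup.mem_iff.mpr mI_symp⟩
/-- fourth generator -/
def sD : Sp0 := ⟨mD, SymplecticGroup.mem_iff.mpr mD_symp⟩

set_option maxRecDepth 100000 in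
theorem c648_mat_rels :
    mA ^ 3 = 1 ∧ mB ^ 3 = 1 ∧ (mA * mB) ^ 3 = 1 ∧ (mA * mB * mB) ^ 3 = 1 ∧ mI ^ 4 = 1 ∧
    mD ^ 3 = 1 ∧ (mI * mD) ^ 3 = mI ^ 2 ∧ mI * mA = mB * mI ∧ mA * (mI * mB) = mI ∧
    mD * mA = mA * mD ∧ mD * mB = mA * mB * (mA * mB * (mA * mA) * (mB * mB)) * mD ∧
    mA * mB * (mA * mA) * (mB * mB) = mZ ∧ mZ ≠ 1 := by
  decide +kernel

theorem c648_coe_pow (s : Sp0) (n : ℕ) : ((s ^ n : Sp0) : Matrix J4 J4 (ZMod 3)) = (s : Matrix J4 J4 (ZMod 3)) ^ n := by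
  rw [SubmonoidClass.coe_pow]

theorem c648_rel_sp0 : Rel648 sA sB sI sD := by
  obtain ⟨h1, h2, h3, h4, h5, h6, h7, h8, h9, h10, h11, -, -⟩ := c648_mat_rels
  refine Rel648.of_pos ?_ ?_ ?_ ?_ ?_ ?_ ?_ ?_ ?_ ?_ ?_
  · exact Subtype.ext (by rw [c648_coe_pow]; exact h1)
  · exact Subtype.ext (by rw [c648_coe_pow]; exact h2)
  · exact Subtype.ext (by rw [c648_coe_pow]; exact h3)
  · exact Subtype.ext (by rw [c648_coe_pow]; exact h4)
  · exact Subtype.ext (by rw [c648_coe_pow]; exact h5)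
  · exact Subtype.ext (by rw [c648_coe_pow]; exact h6)
  · exact Subtype.ext (by rw [c648_coe_pow, c648_coe_pow]; exact h7)
  · exact Subtype.ext h8
  · exact Subtype.ext h9
  · exact Subtype.ext h10
  · exact Subtype.ext h11

/-- the commutator `[a,b]` in `Sp₄(3)` is the transvection matrix `mZ`. -/
theorem c648_comm_sp0 : ((sA * sB * sA⁻¹ * sB⁻¹ : Sp0) : Matrix J4 J4 (ZMod 3)) = mZ := by
  have hr := c648_rel_sp0
  have ha : sA⁻¹ = sA * sA := by
    rw [inv_eq_iff_mul_eq_one]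
    calc sA * (sA * sA) = sA ^ 3 := by rw [pow_succ, pow_two, mul_assoc]
      _ = 1 := hr.a3
  have hb : sB⁻¹ = sB * sB := by
    rw [inv_eq_iff_mul_eq_one]
    calc sB * (sB * sB) = sB ^ 3 := by rw [pow_succ, pow_two, mul_assoc]
      _ = 1 := hr.b3
  rw [ha, hb]
  exact c648_mat_rels.2.2.2.2.2.2.2.2.2.2.2.1

/-- the first basis vector -/
def c648_v0 : J4 → ZMod 3 := Pi.single (Sum.inl 0) 1

set_option maxRecDepth 100000 in
theorem c648_fix_v0 : mA *ᵥ c648_v0 = c648_v0 ∧ mB *ᵥ c648_v0 = c648_v0 ∧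
    mI *ᵥ c648_v0 = c648_v0 ∧ mD *ᵥ c648_v0 = c648_v0 := by
  decide +kernel

end Cfsg.Agent.Sp43C
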