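import Mathlib
import Cfsg.Prelude.Def_Classical
import Cfsg.Prelude.Def_ClassicalGeometry
import Cfsg.Agent.S0246
import Cfsg.Agent.Helper5.SpMap
import Cfsg.Agent.Helper7.SympPerfect
import Cfsg.Agent.Helper8.SpOrder
import Cfsg.Agent.Sp43C.StSideA

/-!
# The stabilizer of a vector in `Sp₄(F)`, `|F| = 3`, carries the relations of `3^{1+2}:SL₂(3)`
-/

set_option autoImplicit false

namespace Cfsg.Agent.Sp43C

open Matrix Cfsg Cfsg.Agent.Helper7.Symp
open Cfsg.Agent.Helper5.SpMap (spMap spMap_val spMap_injective J_map)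

set_option maxRecDepth 100000 in
theorem c648_mZ_transv : mZ = Cfsg.sympTransvection 2 c648_v0 (-1) := by
  decide +kernel

/-- ring homomorphisms carry transvections to transvections. -/
theorem c648_map_transv {R S : Type*} [CommRing R] [CommRing S] (φ : R →+* S)
    (v : J4 → R) (c : R) :
    (Cfsg.sympTransvection 2 v c).map φ = Cfsg.sympTransvection 2 (fun i => φ (v i)) (φ c) := by
  unfold Cfsg.sympTransvection
  ext i j
  simp only [Matrix.map_apply, Matrix.add_apply, Matrix.smul_apply, Matrix.vecMulVec_apply,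
    smul_eq_mul, map_add, map_mul]
  have h1 : φ ((1 : Matrix J4 J4 R) i j) = (1 : Matrix J4 J4 S) i j := by
    simp [Matrix.one_apply, apply_ite φ]
  have h2 : φ ((Matrix.J (Fin 2) R *ᵥ v) j) = (Matrix.J (Fin 2) S *ᵥ fun i => φ (v i)) j := by
    rw [← J_map φ]
    exact RingHom.map_mulVec φ (Matrix.J (Fin 2) R) v j
  rw [h1, h2]

variable {F : Type*} [Field F] [Fintype F]

/-- the prime field is the given field with three elements. -/
noncomputable def c648_e3 (hF : Fintype.card F = 3) : ZMod 3 ≃+* F :=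
  FiniteField.ringEquivOfCardEq (by rw [ZMod.card, hF])

/-- `Sp₄(F)` -/
abbrev SpF (F : Type*) [Field F] : Type _ := Matrix.symplecticGroup (Fin 2) F

/-- the embedding `Sp₄(3) → Sp₄(F)` -/
noncomputable def c648_iota (hF : Fintype.card F = 3) : Sp0 →* SpF F :=
  spMap ((c648_e3 hF : ZMod 3 ≃+* F) : ZMod 3 →+* F)

theorem c648_iota_injective (hF : Fintype.card F = 3) : Function.Injective (c648_iota hF) :=
  spMap_injective _ (c648_e3 hF).injective

/-- the first basis vector over `F` -/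
def c648_vF (F : Type*) [Field F] : J4 → F := Pi.single (Sum.inl 0) 1

theorem c648_vF_ne (F : Type*) [Field F] : c648_vF F ≠ 0 := by
  intro h
  have := congrFun h (Sum.inl 0)
  simp [c648_vF] at this

theorem c648_map_v0 (φ : ZMod 3 →+* F) : (fun i => φ (c648_v0 i)) = c648_vF F := by
  ext i
  simp only [c648_v0, c648_vF, Pi.single_apply]
  split_ifs <;> simp

/-- the stabilizer of the first basis vector -/
def c648_St (F : Type*) [Field F] : Subgroup (SpF F) where
  carrier := {g | (g : Matrix J4 J4 F) *ᵥ c648_vF F = c648_vF F}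
  one_mem' := by
    show ((1 : SpF F) : Matrix J4 J4 F) *ᵥ c648_vF F = c648_vF F
    exact Cfsg.Agent.Helper7.Symp.coe_one_mulVec _
  mul_mem' := by
    intro a b ha hb
    show ((a * b : SpF F) : Matrix J4 J4 F) *ᵥ c648_vF F = c648_vF F
    rw [coe_mul_mulVec, hb, ha]
  inv_mem' := by
    intro a ha
    show ((a⁻¹ : SpF F) : Matrix J4 J4 F) *ᵥ c648_vF F = c648_vF F
    have h := coe_mul_inv_mulVec a⁻¹ (c648_vF F)
    rw [inv_inv, ha] at h
    exact h

theorem c648_mem_St {g : SpF F} :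
    g ∈ c648_St F ↔ (g : Matrix J4 J4 F) *ᵥ c648_vF F = c648_vF F := Iff.rfl

theorem c648_card_SpF (hF : Fintype.card F = 3) : Nat.card (SpF F) = 51840 := by
  have h := Cfsg.Agent.Helper8.SpOrder.card_symp (F := F) 2
  rw [h, hF]
  simp [Finset.prod_range_succ]

theorem c648_card_St (hF : Fintype.card F = 3) : Nat.card (c648_St F) = 648 := by
  have h1 := Cfsg.Agent.Helper8.SpOrder.card_stab_vec (F := F) 2 (c648_vF_ne F)
  rw [c648_card_SpF hF, hF] at h1
  have h2 : Nat.card (c648_St F) = Nat.card {g : SpF F // (g : Matrix J4 J4 F) *ᵥ c648_vF F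
      = c648_vF F} := Nat.card_congr (Equiv.subtypeEquivRight fun g => Iff.rfl)
  rw [h2]
  have h80 : 3 ^ (2 * 2) - 1 = 80 := by norm_num
  rw [h80] at h1
  have h3 : 51840 = 80 * Nat.card {g : SpF F // (g : Matrix J4 J4 F) *ᵥ c648_vF F
      = c648_vF F} := h1
  omega

/-- images of matrices over the prime field fixing the first basis vector lie in the stabilizer -/
theorem c648_iota_mem (hF : Fintype.card F = 3) (s : Sp0)
    (hs : (s : Matrix J4 J4 (ZMod 3)) *ᵥ c648_v0 = c648_v0) : c648_iota hF s ∈ c648_St F := by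
  rw [c648_mem_St]
  set φ : ZMod 3 →+* F := ((c648_e3 hF : ZMod 3 ≃+* F) : ZMod 3 →+* F) with hφ
  have hval : ((c648_iota hF s : SpF F) : Matrix J4 J4 F) = (s : Matrix J4 J4 (ZMod 3)).map φ := rfl
  rw [hval, ← c648_map_v0 φ]
  ext i
  have h := RingHom.map_mulVec φ (s : Matrix J4 J4 (ZMod 3)) c648_v0 i
  rw [hs] at h
  exact h.symm

/-- the four generators in the stabilizer -/
noncomputable def tA (hF : Fintype.card F = 3) : c648_St F :=
  ⟨c648_iota hF sA, c648_iota_mem hF sA c648_fix_v0.1⟩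
/-- second generator -/
noncomputable def tB (hF : Fintype.card F = 3) : c648_St F :=
  ⟨c648_iota hF sB, c648_iota_mem hF sB c648_fix_v0.2.1⟩
/-- third generator -/
noncomputable def tI (hF : Fintype.card F = 3) : c648_St F :=
  ⟨c648_iota hF sI, c648_iota_mem hF sI c648_fix_v0.2.2.1⟩
/-- fourth generator -/
noncomputable def tD (hF : Fintype.card F = 3) : c648_St F :=
  ⟨c648_iota hF sD, c648_iota_mem hF sD c648_fix_v0.2.2.2⟩

theorem c648_rel_St (hF : Fintype.card F = 3) : Rel648 (tA hF) (tB hF) (tI hF) (tD hF) :=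
  Rel648.of_map (c648_St F).subtype (c648_St F).subtype_injective
    (c648_rel_sp0.map (c648_iota hF))

/-- the commutator `[a,b]` in `Sp₄(F)` -/
noncomputable def c648_zeta (hF : Fintype.card F = 3) : SpF F :=
  c648_iota hF (sA * sB * sA⁻¹ * sB⁻¹)

theorem c648_zeta_eq (hF : Fintype.card F = 3) :
    (((tA hF) * (tB hF) * (tA hF)⁻¹ * (tB hF)⁻¹ : c648_St F) : SpF F) = c648_zeta hF := by
  unfold c648_zeta
  simp only [map_mul, map_inv]
  rfl

theorem c648_zeta_transv (hF : Fintype.card F = 3) : c648_zeta hF = T (c648_vF F) (-1) := by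
  apply Subtype.ext
  set φ : ZMod 3 →+* F := ((c648_e3 hF : ZMod 3 ≃+* F) : ZMod 3 →+* F) with hφ
  have hval : ((c648_zeta hF : SpF F) : Matrix J4 J4 F)
      = ((sA * sB * sA⁻¹ * sB⁻¹ : Sp0) : Matrix J4 J4 (ZMod 3)).map φ := rfl
  rw [hval, c648_comm_sp0, c648_mZ_transv, c648_map_transv, c648_map_v0 φ, map_neg, map_one]
  rfl

theorem c648_zeta_ne (hF : Fintype.card F = 3) : c648_zeta hF ≠ 1 := by
  intro h
  have h1 : sA * sB * sA⁻¹ * sB⁻¹ = 1 := c648_iota_injective hF (by rw [map_one]; exact h)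
  have h2 := c648_comm_sp0
  rw [h1] at h2
  exact c648_mat_rels.2.2.2.2.2.2.2.2.2.2.2.2 h2.symm

theorem c648_comm_St_ne (hF : Fintype.card F = 3) :
    (tA hF) * (tB hF) * (tA hF)⁻¹ * (tB hF)⁻¹ ≠ 1 := by
  intro h
  apply c648_zeta_ne hF
  rw [← c648_zeta_eq, h]
  rfl

end Cfsg.Agent.Sp43C
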