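import Mathlib
import Cfsg.Agent.Sp43C.StSideB

/-!
# The centralizer of a long root element of `PSp₄(3)` is the stabilizer of a vector in `Sp₄(3)`
-/

set_option autoImplicit false

namespace Cfsg.Agent.Sp43C

open Matrix Cfsg Cfsg.Agent.Helper7.Symp

/-- the commutator `[a,b]` has order dividing 3 in any group carrying the relations. -/
theorem Rel648.z_pow {G : Type*} [Group G] {a b i d : G} (h : Rel648 a b i d) :
    (a * b * a⁻¹ * b⁻¹) ^ 3 = 1 := by
  obtain ⟨φ, hφA, hφB⟩ := c648_h27_lift a b h.a3 h.b3 h.ab3 h.abb3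
  have h1 := congrArg φ (show (hA * hB * hA⁻¹ * hB⁻¹) ^ 3 = 1 by decide)
  simpa only [map_pow, map_mul, map_inv, hφA, hφB, map_one] using h1

variable {F : Type*} [Field F] [Fintype F]

/-- the projection `Sp₄(F) → PSp₄(F)` -/
abbrev c648_pr (F : Type*) [Field F] : SpF F →* Cfsg.PSp 2 F :=
  QuotientGroup.mk' (Subgroup.center (SpF F))

theorem c648_two_ne (hF : Fintype.card F = 3) : (2 : F) ≠ 0 := by
  intro h
  have h1 : (c648_e3 hF) (2 : ZMod 3) = 0 := by
    rw [map_ofNat]; exact h
  have h2 : (2 : ZMod 3) = 0 := (c648_e3 hF).injective (by rw [h1, map_zero])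
  exact absurd h2 (by decide)

theorem c648_neg_vF_ne (hF : Fintype.card F = 3) : -c648_vF F ≠ c648_vF F := by
  intro h
  have h1 := congrFun h (Sum.inl 0)
  simp only [c648_vF, Pi.neg_apply, Pi.single_eq_same] at h1
  apply c648_two_ne hF
  have : (2 : F) = 1 - (-1) := by ring
  rw [this, h1, sub_self]

/-- elements of the stabilizer commute with the transvection -/
theorem c648_conj_zeta (hF : Fintype.card F = 3) {g : SpF F} (hg : g ∈ c648_St F) :
    g * c648_zeta hF * g⁻¹ = c648_zeta hF := by
  rw [c648_zeta_transv, conj_T, c648_mem_St.mp hg]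

/-- the key computation: if `g ζ g⁻¹ ζ⁻¹` is central then `g v = ± v`. -/
theorem c648_mulVec_of_comm (hF : Fintype.card F = 3) (g : SpF F)
    (hc : g * c648_zeta hF * g⁻¹ * (c648_zeta hF)⁻¹ ∈ Subgroup.center (SpF F)) :
    (g : Matrix J4 J4 F) *ᵥ c648_vF F = c648_vF F ∨
      (g : Matrix J4 J4 F) *ᵥ c648_vF F = -c648_vF F := by
  set v := c648_vF F with hv
  set gv := (g : Matrix J4 J4 F) *ᵥ v with hgv
  have hvne : v ≠ 0 := c648_vF_ne F
  have hconj : g * c648_zeta hF * g⁻¹ = T gv (-1) := by
    rw [c648_zeta_transv, conj_T]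
  rcases Cfsg.Agent.S0246.central_eq (by norm_num : 1 ≤ 2) _ hc with h1 | h1
  · -- g ζ g⁻¹ = ζ
    have heq : T gv (-1) = T v (-1) := by
      rw [← hconj, ← c648_zeta_transv hF]
      calc g * c648_zeta hF * g⁻¹
          = (g * c648_zeta hF * g⁻¹ * (c648_zeta hF)⁻¹) * c648_zeta hF := by group
        _ = c648_zeta hF := by rw [h1, one_mul]
    have hx : ∀ x : J4 → F, sympForm 2 F x gv • gv = sympForm 2 F x v • v := by
      intro x
      have h2 := congrArg (fun A : SpF F => (A : Matrix J4 J4 F) *ᵥ x) heq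
      simp only [T_mulVec] at h2
      have h3 := add_left_cancel h2
      have h4 : (-1 * sympForm 2 F x gv) • gv = -(sympForm 2 F x gv • gv) := by
        rw [neg_one_mul, neg_smul]
      have h5 : (-1 * sympForm 2 F x v) • v = -(sympForm 2 F x v • v) := by
        rw [neg_one_mul, neg_smul]
      rw [h4, h5] at h3
      exact neg_injective h3
    obtain ⟨y, hy⟩ := exists_sympForm_ne_zero hvne
    have hβ : sympForm 2 F y v ≠ 0 := by
      rw [sympForm_swap]; exact neg_ne_zero.mpr hy
    set α := sympForm 2 F y gv with hα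
    set β := sympForm 2 F y v with hβdef
    have h0 : α • gv = β • v := hx y
    have hαne : α ≠ 0 := by
      intro h
      rw [h, zero_smul] at h0
      exact (smul_ne_zero hβ hvne) h0.symm
    have hgvμ : gv = (α⁻¹ * β) • v := by
      rw [mul_smul, ← h0, smul_smul, inv_mul_cancel₀ hαne, one_smul]
    set μ := α⁻¹ * β with hμ
    -- μ² = 1
    have h6 : α = μ * β := by
      rw [hα, hgvμ, sympForm_smul_right]
    have h7 : (μ * β * μ) • v = β • v := by
      have h0' : α • gv = β • v := h0
      rw [hgvμ, smul_smul] at h0'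
      rw [← h0']
      congr 1
      rw [h6]
    have h8 : μ * β * μ = β := by
      have h9 := congrFun h7 (Sum.inl 0)
      simp only [hv, c648_vF, Pi.smul_apply, Pi.single_eq_same, smul_eq_mul, mul_one] at h9
      exact h9
    have h10 : (μ - 1) * (μ + 1) = 0 := by
      have : β * ((μ - 1) * (μ + 1)) = 0 := by
        have : β * ((μ - 1) * (μ + 1)) = μ * β * μ - β := by ring
        rw [this, h8, sub_self]
      exact (mul_eq_zero.mp this).resolve_left hβ
    rcases mul_eq_zero.mp h10 with h11 | h11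
    · left
      have : μ = 1 := sub_eq_zero.mp h11
      rw [hgvμ, this, one_smul]
    · right
      have : μ = -1 := eq_neg_of_add_eq_zero_left h11
      rw [hgvμ, this, neg_one_smul]
  · -- g ζ g⁻¹ = -ζ : impossible
    exfalso
    have heq : T gv (-1) = Cfsg.Agent.S0246.negOne 2 F * T v (-1) := by
      rw [← hconj, ← c648_zeta_transv hF, ← h1]
      group
    have h2 := congrArg (fun A : SpF F => (A : Matrix J4 J4 F) *ᵥ v) heq
    simp only [coe_mul_mulVec, T_mulVec, sympForm_self, mul_zero, zero_smul, add_zero] at h2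
    have h3 : ((Cfsg.Agent.S0246.negOne 2 F : SpF F) : Matrix J4 J4 F) *ᵥ v = -v := by
      show (-1 : Matrix J4 J4 F) *ᵥ v = -v
      rw [neg_mulVec, one_mulVec]
    rw [h3] at h2
    -- v + (-γ) gv = -v
    set γ := sympForm 2 F v gv with hγ
    have h4 : γ • gv = (2 : F) • v := by
      have h5 : (-1 * γ) • gv = -(γ • gv) := by rw [neg_one_mul, neg_smul]
      rw [h5] at h2
      have h6 : γ • gv = v + v := by
        have h7 : v + -(γ • gv) + (γ • gv + v) = -v + (γ • gv + v) := by rw [h2]
        have h8 : v + -(γ • gv) + (γ • gv + v) = v + v := by abel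
        have h9 : -v + (γ • gv + v) = γ • gv := by abel
        rw [h8, h9] at h7
        exact h7.symm
      rw [h6, two_smul]
    have h2ne := c648_two_ne hF
    by_cases hγ0 : γ = 0
    · rw [hγ0, zero_smul] at h4
      exact (smul_ne_zero h2ne hvne) h4.symm
    · have hgv' : gv = (γ⁻¹ * 2) • v := by
        rw [mul_smul, ← h4, smul_smul, inv_mul_cancel₀ hγ0, one_smul]
      apply hγ0
      rw [hγ, hgv', sympForm_smul_right, sympForm_self, mul_zero]

/-- the homomorphism from the stabilizer to the centralizer -/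
noncomputable def c648_psi (hF : Fintype.card F = 3) :
    c648_St F →* Subgroup.centralizer ({c648_pr F (c648_zeta hF)} : Set (Cfsg.PSp 2 F)) :=
  ((c648_pr F).comp (c648_St F).subtype).codRestrict _ (by
    intro g
    rw [Subgroup.mem_centralizer_iff]
    intro h hh
    rw [Set.mem_singleton_iff] at hh
    rw [hh]
    show c648_pr F (c648_zeta hF) * c648_pr F (g : SpF F) = c648_pr F (g : SpF F) * c648_pr F (c648_zeta hF)
    rw [← map_mul, ← map_mul]
    congr 1
    have := c648_conj_zeta hF g.2
    calc c648_zeta hF * (g : SpF F) = ((g : SpF F) * c648_zeta hF * (g : SpF F)⁻¹) * g := by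
          rw [this]
      _ = (g : SpF F) * c648_zeta hF := by group)

theorem c648_psi_injective (hF : Fintype.card F = 3) : Function.Injective (c648_psi hF) := by
  rw [injective_iff_map_eq_one]
  intro g hg
  have h1 : c648_pr F (g : SpF F) = 1 := congrArg Subtype.val hg
  have h2 : (g : SpF F) ∈ Subgroup.center (SpF F) := (QuotientGroup.eq_one_iff _).mp h1
  rcases Cfsg.Agent.S0246.central_eq (by norm_num : 1 ≤ 2) _ h2 with h3 | h3
  · exact Subtype.ext h3
  · exfalso
    have h4 := c648_mem_St.mp g.2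
    rw [h3] at h4
    have h5 : ((Cfsg.Agent.S0246.negOne 2 F : SpF F) : Matrix J4 J4 F) *ᵥ c648_vF F
        = -c648_vF F := by
      show (-1 : Matrix J4 J4 F) *ᵥ c648_vF F = -c648_vF F
      rw [neg_mulVec, one_mulVec]
    rw [h5] at h4
    exact c648_neg_vF_ne hF h4

theorem c648_psi_surjective (hF : Fintype.card F = 3) : Function.Surjective (c648_psi hF) := by
  rintro ⟨y, hy⟩
  obtain ⟨g, rfl⟩ := QuotientGroup.mk'_surjective (Subgroup.center (SpF F)) y
  have hcomm := Subgroup.mem_centralizer_iff.mp hy _ (Set.mem_singleton _)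
  -- c * pr g = pr g * c
  have hc : g * c648_zeta hF * g⁻¹ * (c648_zeta hF)⁻¹ ∈ Subgroup.center (SpF F) := by
    rw [← QuotientGroup.eq_one_iff]
    show c648_pr F (g * c648_zeta hF * g⁻¹ * (c648_zeta hF)⁻¹) = 1
    have h1 : c648_pr F (c648_zeta hF) * c648_pr F g = c648_pr F g * c648_pr F (c648_zeta hF) :=
      hcomm
    rw [map_mul, map_mul, map_mul, map_inv, map_inv, ← h1]
    group
  rcases c648_mulVec_of_comm hF g hc with h | h
  · exact ⟨⟨g, c648_mem_St.mpr h⟩, Subtype.ext rfl⟩
  · have hmem : Cfsg.Agent.S0246.negOne 2 F * g ∈ c648_St F := by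
      rw [c648_mem_St, coe_mul_mulVec, h]
      show (-1 : Matrix J4 J4 F) *ᵥ (-c648_vF F) = c648_vF F
      rw [neg_mulVec, one_mulVec, neg_neg]
    refine ⟨⟨_, hmem⟩, Subtype.ext ?_⟩
    show c648_pr F (Cfsg.Agent.S0246.negOne 2 F * g) = c648_pr F g
    rw [map_mul]
    have : c648_pr F (Cfsg.Agent.S0246.negOne 2 F) = 1 :=
      (QuotientGroup.eq_one_iff _).mpr (Cfsg.Agent.S0246.negOne_mem_center 2 F)
    rw [this, one_mul]

/-- the stabilizer is isomorphic to the centralizer -/
noncomputable def c648_psiEquiv (hF : Fintype.card F = 3) :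
    c648_St F ≃* Subgroup.centralizer ({c648_pr F (c648_zeta hF)} : Set (Cfsg.PSp 2 F)) :=
  MulEquiv.ofBijective (c648_psi hF) ⟨c648_psi_injective hF, c648_psi_surjective hF⟩

end Cfsg.Agent.Sp43C
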