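import Mathlib
import Cfsg.Agent.Sp43C.Bound

/-!
# Abstract recognition of `3^{1+2}:SL₂(3)`, part A: the setting and the centre
-/

set_option autoImplicit false

namespace Cfsg.Agent.Sp43C

/-- The abstract hypotheses: `Q` normal of order 27 and exponent 3, `Z = Z(Q)` of order 3 containing
all commutators of `Q`, `X/Q ≅ SL₂(3)` via `π`, and no central involution. -/
structure XData (X : Type*) [Group X] where
  /-- the normal extraspecial subgroup -/
  Q : Subgroup X
  /-- its centre -/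
  Z : Subgroup X
  /-- the projection onto `SL₂(3)` -/
  π : X →* SL23
  hQn : Q.Normal
  hQcard : Nat.card Q = 27
  hexp : ∀ r ∈ Q, r ^ 3 = 1
  hZQ : Z ≤ Q
  hZcard : Nat.card Z = 3
  hZc : ∀ w ∈ Z, ∀ q ∈ Q, w * q = q * w
  hcomm : ∀ u ∈ Q, ∀ v ∈ Q, u * v * u⁻¹ * v⁻¹ ∈ Z
  hZmax : ∀ q ∈ Q, (∀ u ∈ Q, q * u = u * q) → q ∈ Z
  hπ : Function.Surjective π
  hker : π.ker = Q
  hO2 : ∀ t : X, t ^ 2 = 1 → (∀ x, x * t = t * x) → t = 1

namespace XData

variable {X : Type*} [Group X] (D : XData X)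

theorem mem_Q_iff (x : X) : x ∈ D.Q ↔ D.π x = 1 := by
  rw [← D.hker, MonoidHom.mem_ker]

theorem finQ : Finite D.Q := Nat.finite_of_card_ne_zero (by rw [D.hQcard]; norm_num)

theorem finZ : Finite D.Z := Nat.finite_of_card_ne_zero (by rw [D.hZcard]; norm_num)

theorem conj_mem_Q (x : X) {q : X} (hq : q ∈ D.Q) : x * q * x⁻¹ ∈ D.Q :=
  D.hQn.conj_mem q hq x

theorem eq_one_of_sq {q : X} (hq : q ∈ D.Q) (h2 : q ^ 2 = 1) : q = 1 := by
  have h3 := D.hexp q hq
  calc q = q ^ 3 * (q ^ 2)⁻¹ := by group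
    _ = 1 := by rw [h3, h2]; simp

theorem Z_pow {w : X} (hw : w ∈ D.Z) : w ^ 3 = 1 := D.hexp w (D.hZQ hw)

theorem inv_eq_sq {q : X} (hq : q ∈ D.Q) : q⁻¹ = q ^ 2 := by
  have h3 := D.hexp q hq
  rw [inv_eq_iff_mul_eq_one, ← pow_succ']
  exact h3

/-- `Z` is cyclic of order 3: every element is a power of a given nontrivial one. -/
theorem Z_gen {w : X} (hw : w ∈ D.Z) (hw1 : w ≠ 1) {w' : X} (hw' : w' ∈ D.Z) :
    w' = 1 ∨ w' = w ∨ w' = w⁻¹ := by
  have h3 := D.Z_pow hw
  have ho : orderOf w = 3 := orderOf_eq_prime h3 hw1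
  have hle : Subgroup.zpowers w ≤ D.Z := (Subgroup.zpowers_le).mpr hw
  have hfin := D.finZ
  have hcard : Nat.card (Subgroup.zpowers w) = 3 := by rw [Nat.card_zpowers, ho]
  have heq : Subgroup.zpowers w = D.Z :=
    Subgroup.eq_of_le_of_card_ge hle (by rw [hcard, D.hZcard])
  rw [← heq] at hw'
  obtain ⟨k, rfl⟩ := Subgroup.mem_zpowers_iff.mp hw'
  have hk : w ^ k = w ^ (k % 3) := by
    have := (zpow_mod_orderOf w k).symm
    rw [ho] at this
    exact_mod_cast this
  have h0 : 0 ≤ k % 3 := Int.emod_nonneg _ (by norm_num)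
  have h1 : k % 3 < 3 := Int.emod_lt_of_pos _ (by norm_num)
  rw [hk]
  obtain ⟨n, hn⟩ : ∃ n : ℕ, k % 3 = n := ⟨(k % 3).toNat, (Int.toNat_of_nonneg h0).symm⟩
  rw [hn] at h1 ⊢
  have hn3 : n < 3 := by exact_mod_cast h1
  rw [zpow_natCast]
  interval_cases n
  · left; simp
  · right; left; simp
  · right; right
    rw [D.inv_eq_sq (D.hZQ hw)]

/-- `Z` is normal in `X`. -/
theorem conj_mem_Z (x : X) {w : X} (hw : w ∈ D.Z) : x * w * x⁻¹ ∈ D.Z := by
  apply D.hZmax _ (D.conj_mem_Q x (D.hZQ hw))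
  intro u hu
  have hu' : x⁻¹ * u * x ∈ D.Q := by
    have := D.conj_mem_Q x⁻¹ hu
    simpa using this
  have h := D.hZc w hw _ hu'
  calc x * w * x⁻¹ * u = x * (w * (x⁻¹ * u * x)) * x⁻¹ := by group
    _ = x * ((x⁻¹ * u * x) * w) * x⁻¹ := by rw [h]
    _ = u * (x * w * x⁻¹) := by group

/-- squares centralize `Z`. -/
theorem sq_comm_Z (x : X) {w : X} (hw : w ∈ D.Z) : x * x * w = w * (x * x) := by
  by_cases hw1 : w = 1
  · rw [hw1]; simp
  have hc := D.conj_mem_Z x hw
  rcases D.Z_gen hw hw1 hc with h | h | h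
  · exfalso
    apply hw1
    have : x * w * x⁻¹ = x * 1 * x⁻¹ := by rw [h]; simp
    have h2 : x * w = x * 1 := mul_right_cancel this
    simpa using mul_left_cancel h2
  · have : x * w = w * x := by
      calc x * w = (x * w * x⁻¹) * x := by group
        _ = w * x := by rw [h]
    calc x * x * w = x * (x * w) := by group
      _ = x * (w * x) := by rw [this]
      _ = (x * w) * x := by group
      _ = w * x * x := by rw [this]
      _ = w * (x * x) := by group
  · have h1 : x * w = w⁻¹ * x := by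
      calc x * w = (x * w * x⁻¹) * x := by group
        _ = w⁻¹ * x := by rw [h]
    have h2 : x * w⁻¹ = w * x := by
      have : x * w⁻¹ * x⁻¹ = w := by
        calc x * w⁻¹ * x⁻¹ = (x * w * x⁻¹)⁻¹ := by group
          _ = w := by rw [h, inv_inv]
      calc x * w⁻¹ = (x * w⁻¹ * x⁻¹) * x := by group
        _ = w * x := by rw [this]
    calc x * x * w = x * (x * w) := by group
      _ = x * (w⁻¹ * x) := by rw [h1]
      _ = (x * w⁻¹) * x := by group
      _ = w * x * x := by rw [h2]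
      _ = w * (x * x) := by group

/-- **`X` centralizes `Z`.** -/
theorem central (x : X) {w : X} (hw : w ∈ D.Z) : x * w = w * x := by
  obtain ⟨s1, s2, hs⟩ := c648_sl_two_squares (D.π x)
  obtain ⟨x1, rfl⟩ := D.hπ s1
  obtain ⟨x2, rfl⟩ := D.hπ s2
  set y : X := x1 * x1 * (x2 * x2) with hy
  have hq : x * y⁻¹ ∈ D.Q := by
    rw [D.mem_Q_iff, map_mul, map_inv, hs, hy]
    simp only [map_mul]
    group
  have hyw : y * w = w * y := by
    rw [hy]
    calc x1 * x1 * (x2 * x2) * w = x1 * x1 * ((x2 * x2) * w) := by group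
      _ = x1 * x1 * (w * (x2 * x2)) := by rw [D.sq_comm_Z x2 hw]
      _ = (x1 * x1 * w) * (x2 * x2) := by group
      _ = (w * (x1 * x1)) * (x2 * x2) := by rw [D.sq_comm_Z x1 hw]
      _ = w * (x1 * x1 * (x2 * x2)) := by group
  have hqw := D.hZc w hw _ hq
  calc x * w = (x * y⁻¹) * (y * w) := by group
    _ = (x * y⁻¹) * (w * y) := by rw [hyw]
    _ = ((x * y⁻¹) * w) * y := by group
    _ = (w * (x * y⁻¹)) * y := by rw [hqw]
    _ = w * x := by group

end XData

end Cfsg.Agent.Sp43C
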