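import Mathlib
import Cfsg.Agent.Sp43C.XSideA

/-!
# Abstract recognition of `3^{1+2}:SL₂(3)`, part B: the central involution of `X/Q` acts on `Q`
-/

set_option autoImplicit false

namespace Cfsg.Agent.Sp43C

namespace XData

variable {X : Type*} [Group X] (D : XData X)

theorem zpow_eq_pow {u : X} (h3 : u ^ 3 = 1) (k : ℤ) : ∃ n : ℕ, u ^ k = u ^ n := by
  refine ⟨(k % 3).toNat, ?_⟩
  have h0 : 0 ≤ k % 3 := Int.emod_nonneg _ (by norm_num)
  have hk : k = k % 3 + 3 * (k / 3) := (Int.emod_add_mul_ediv k 3).symm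
  have h3' : u ^ (3 : ℤ) = 1 := by exact_mod_cast h3
  calc u ^ k = u ^ (k % 3 + 3 * (k / 3)) := by rw [← hk]
    _ = u ^ (k % 3) * (u ^ (3 : ℤ)) ^ (k / 3) := by rw [zpow_add, zpow_mul]
    _ = u ^ (k % 3) := by rw [h3', one_zpow, mul_one]
    _ = u ^ ((k % 3).toNat : ℤ) := by rw [Int.toNat_of_nonneg h0]
    _ = u ^ (k % 3).toNat := zpow_natCast u _

/-- a subgroup of `Q` containing two non-commuting elements is all of `Q`. -/
theorem full27 (S : Subgroup X) (hS : S ≤ D.Q) {u v : X} (hu : u ∈ S) (hv : v ∈ S)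
    (huv : u * v ≠ v * u) : S = D.Q := by
  classical
  have hfin := D.finQ
  have hdvd : Nat.card S ∣ 3 ^ 3 := by
    have := Subgroup.card_dvd_of_le hS
    rw [D.hQcard] at this
    exact this
  obtain ⟨j, hj, hcard⟩ := (Nat.dvd_prime_pow Nat.prime_three).mp hdvd
  have hcomm : (∀ x y : S, x * y = y * x) → False := by
    intro h
    apply huv
    have := h ⟨u, hu⟩ ⟨v, hv⟩
    exact congrArg Subtype.val this
  interval_cases j
  · exfalso
    apply hcomm
    have : Subsingleton S := (Nat.card_eq_one_iff_unique.mp (by simpa using hcard)).1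
    intro x y
    rw [Subsingleton.elim x 1, Subsingleton.elim y 1]
  · exfalso
    apply hcomm
    have : Fact (Nat.Prime 3) := ⟨Nat.prime_three⟩
    have hc : IsCyclic S := isCyclic_of_prime_card (p := 3) (by simpa using hcard)
    intro x y
    let _ := IsCyclic.commGroup (α := S)
    exact mul_comm x y
  · exfalso
    apply hcomm
    have : Fact (Nat.Prime 3) := ⟨Nat.prime_three⟩
    have hmc := IsPGroup.isMulCommutative_of_card_eq_prime_sq (p := 3) hcard
    exact fun x y => hmc.is_comm.comm x y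
  · exact Subgroup.eq_of_le_of_card_ge hS (by rw [hcard, D.hQcard]; norm_num)

/-- the centralizer in `Q` of a noncentral element `u` is `⟨u⟩ Z`. -/
theorem cent_eq {u : X} (hu : u ∈ D.Q) (huZ : u ∉ D.Z) {q : X} (hq : q ∈ D.Q)
    (hc : q * u = u * q) : ∃ k : ℕ, ∃ w ∈ D.Z, q = u ^ k * w := by
  classical
  have hfin := D.finQ
  set C : Subgroup X := D.Q ⊓ Subgroup.centralizer {u} with hC
  set K : Subgroup X := D.Z ⊔ Subgroup.zpowers u with hK
  have huC : u ∈ C := by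
    refine Subgroup.mem_inf.mpr ⟨hu, ?_⟩
    rw [Subgroup.mem_centralizer_iff]
    intro h hh
    rw [Set.mem_singleton_iff] at hh
    rw [hh]
  have hZC : D.Z ≤ C := by
    intro w hw
    refine Subgroup.mem_inf.mpr ⟨D.hZQ hw, ?_⟩
    rw [Subgroup.mem_centralizer_iff]
    intro h hh
    rw [Set.mem_singleton_iff] at hh
    rw [hh]
    exact (D.hZc w hw u hu).symm
  have hKC : K ≤ C := sup_le hZC ((Subgroup.zpowers_le).mpr huC)
  have hCQ : C ≤ D.Q := inf_le_left
  have hfinC : Finite C := Finite.of_injective (Subgroup.inclusion hCQ) (Subgroup.inclusion_injective hCQ)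
  have hCne : C ≠ D.Q := by
    intro h
    apply huZ
    apply D.hZmax u hu
    intro x hx
    have hxC : x ∈ C := by rw [h]; exact hx
    have := Subgroup.mem_centralizer_iff.mp (Subgroup.mem_inf.mp hxC).2 u rfl
    exact this
  have hdvdC : Nat.card C ∣ 3 ^ 3 := by
    have := Subgroup.card_dvd_of_le hCQ
    rwa [D.hQcard] at this
  obtain ⟨j, hj, hcardC⟩ := (Nat.dvd_prime_pow Nat.prime_three).mp hdvdC
  have hj2 : j ≤ 2 := by
    by_contra hj3
    have : j = 3 := by omega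
    apply hCne
    exact Subgroup.eq_of_le_of_card_ge hCQ (by rw [hcardC, this, D.hQcard]; norm_num)
  have hdvdK : Nat.card K ∣ 3 ^ j := by
    have := Subgroup.card_dvd_of_le hKC
    rwa [hcardC] at this
  obtain ⟨l, hl, hcardK⟩ := (Nat.dvd_prime_pow Nat.prime_three).mp hdvdK
  have hZK : D.Z ≤ K := le_sup_left
  have hfinK : Finite K := Finite.of_injective (Subgroup.inclusion hKC) (Subgroup.inclusion_injective hKC)
  have hl1 : l ≠ 0 ∧ l ≠ 1 := by
    constructor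
    · intro h0
      have h3 : Nat.card D.Z ∣ Nat.card K := Subgroup.card_dvd_of_le hZK
      rw [hcardK, h0, D.hZcard] at h3
      norm_num at h3
    · intro h1
      have : D.Z = K := Subgroup.eq_of_le_of_card_ge hZK (by rw [hcardK, h1, D.hZcard]; norm_num)
      apply huZ
      rw [this]
      exact (le_sup_right : Subgroup.zpowers u ≤ K) (Subgroup.mem_zpowers u)
  have hlj : l = j := by omega
  have hKeq : K = C := Subgroup.eq_of_le_of_card_ge hKC (by rw [hcardK, hcardC, hlj])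
  have hqC : q ∈ C := by
    refine Subgroup.mem_inf.mpr ⟨hq, ?_⟩
    rw [Subgroup.mem_centralizer_iff]
    intro h hh
    rw [Set.mem_singleton_iff] at hh
    rw [hh]
    exact hc.symm
  have hZn : D.Z.Normal := ⟨fun w hw x => D.conj_mem_Z x hw⟩
  have hqK : q ∈ (↑(D.Z ⊔ Subgroup.zpowers u) : Set X) := by
    rw [← hKeq] at hqC; exact hqC
  rw [Subgroup.normal_mul] at hqK
  obtain ⟨w, hw, y, hy, hwy⟩ := Set.mem_mul.mp hqK
  obtain ⟨k, rfl⟩ := Subgroup.mem_zpowers_iff.mp hy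
  obtain ⟨n, hn⟩ := zpow_eq_pow (D.hexp u hu) k
  refine ⟨n, w, hw, ?_⟩
  rw [← hwy, hn]
  exact D.hZc w hw _ (pow_mem hu n)

/-- `t` is an involution of `X` lifting the central involution of `SL₂(3)`. -/
structure Inv (t : X) : Prop where
  sq : t * t = 1
  img : D.π t = sM1

/-- the set of elements of `Q` inverted by `t` -/
def Iset (t : X) (q : X) : Prop := q ∈ D.Q ∧ t * q * t⁻¹ = q⁻¹

variable {D}
variable {t : X} (ht : D.Inv t)

include ht

theorem Inv.inv_eq : t⁻¹ = t := by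
  rw [inv_eq_iff_mul_eq_one]; exact ht.sq

theorem Inv.ne_one : t ≠ 1 := by
  intro h
  have := ht.img
  rw [h, map_one] at this
  exact c648_sl_m1.2.1 this.symm

/-- commutators with `t` lie in `Q`. -/
theorem Inv.comm_mem_Q (x : X) : x * t * x⁻¹ * t⁻¹ ∈ D.Q := by
  rw [D.mem_Q_iff]
  simp only [map_mul, map_inv, ht.img]
  rw [c648_sl_m1.1 (D.π x)]
  group

/-- `t` does not centralize `Q`. -/
theorem Inv.exists_moved : ∃ q0 ∈ D.Q, t * q0 * t⁻¹ ≠ q0 := by
  by_contra hcon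
  push Not at hcon
  have hcomm : ∀ q ∈ D.Q, t * q = q * t := by
    intro q hq
    have := hcon q hq
    calc t * q = (t * q * t⁻¹) * t := by group
      _ = q * t := by rw [this]
  apply ht.ne_one
  apply D.hO2 t (by rw [pow_two]; exact ht.sq)
  intro x
  have hq := ht.comm_mem_Q x
  set q : X := x * t * x⁻¹ * t⁻¹ with hqdef
  have hxt : x * t * x⁻¹ = q * t := by rw [hqdef]; group
  have hsq : (q * t) * (q * t) = 1 := by
    rw [← hxt]
    calc x * t * x⁻¹ * (x * t * x⁻¹) = x * (t * t) * x⁻¹ := by group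
      _ = 1 := by rw [ht.sq]; group
  have hq2 : q ^ 2 = 1 := by
    have h1 : (q * t) * (q * t) = q * q * (t * t) := by
      calc (q * t) * (q * t) = q * (t * q) * t := by group
        _ = q * (q * t) * t := by rw [hcomm q hq]
        _ = q * q * (t * t) := by group
    rw [h1, ht.sq, mul_one] at hsq
    rw [pow_two]; exact hsq
  have hq1 : q = 1 := D.eq_one_of_sq hq hq2
  rw [hq1, one_mul] at hxt
  calc x * t = (x * t * x⁻¹) * x := by group
    _ = t * x := by rw [hxt]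

omit ht in
theorem Iset.mem {q : X} (h : D.Iset t q) : q ∈ D.Q := h.1

omit ht in
theorem Iset.conj {q : X} (h : D.Iset t q) : t * q * t⁻¹ = q⁻¹ := h.2

omit ht in
theorem Iset.one : D.Iset t 1 := ⟨one_mem _, by simp⟩

omit ht in
theorem Iset.inv {q : X} (h : D.Iset t q) : D.Iset t q⁻¹ := by
  refine ⟨inv_mem h.1, ?_⟩
  calc t * q⁻¹ * t⁻¹ = (t * q * t⁻¹)⁻¹ := by group
    _ = q⁻¹⁻¹ := by rw [h.2]

omit ht in
theorem Iset.pow {q : X} (h : D.Iset t q) (n : ℕ) : D.Iset t (q ^ n) := by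
  refine ⟨pow_mem h.1 n, ?_⟩
  have : t * q ^ n * t⁻¹ = (t * q * t⁻¹) ^ n := by
    have := map_pow (MulAut.conj t) q n
    simpa [MulAut.conj_apply] using this
  rw [this, h.2, inv_pow]

/-- uniqueness of the `I`-part -/
theorem Inv.Iset_unique {r w : X} (hr : D.Iset t r) (hw : w ∈ D.Z) (hrw : D.Iset t (r * w)) :
    w = 1 := by
  have h1 : t * (r * w) * t⁻¹ = r⁻¹ * w := by
    have hcw : t * w = w * t := D.central t hw
    calc t * (r * w) * t⁻¹ = (t * r * t⁻¹) * (t * w) * t⁻¹ := by group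
      _ = r⁻¹ * (w * t) * t⁻¹ := by rw [hr.2, hcw]
      _ = r⁻¹ * w := by group
  have h2 : (r * w)⁻¹ = r⁻¹ * w⁻¹ := by
    have := D.hZc w hw r hr.1
    calc (r * w)⁻¹ = (w * r)⁻¹ := by rw [this]
      _ = r⁻¹ * w⁻¹ := by group
  have h3 : w = w⁻¹ := by
    have := hrw.2
    rw [h1, h2] at this
    exact mul_left_cancel this
  apply D.eq_one_of_sq (D.hZQ hw)
  rw [pow_two]
  calc w * w = w * w⁻¹ := by rw [← h3]
    _ = 1 := mul_inv_cancel w

/-- a nontrivial element of `I` is not central -/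
theorem Inv.not_mem_Z {u : X} (hu : D.Iset t u) (hu1 : u ≠ 1) : u ∉ D.Z := by
  intro hz
  apply hu1
  have := ht.Iset_unique Iset.one hz (by simpa using hu)
  exact this

/-- `I` contains a nontrivial element. -/
theorem Inv.exists_Iset : ∃ u, D.Iset t u ∧ u ≠ 1 := by
  obtain ⟨q0, hq0, hne⟩ := ht.exists_moved
  refine ⟨q0⁻¹ * (t * q0 * t⁻¹), ⟨mul_mem (inv_mem hq0) (D.conj_mem_Q t hq0), ?_⟩, ?_⟩
  · have hti := ht.inv_eq
    have htt : t * t = 1 := ht.sq
    calc t * (q0⁻¹ * (t * q0 * t⁻¹)) * t⁻¹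
        = (t * q0 * t⁻¹)⁻¹ * ((t * t) * q0 * (t⁻¹ * t⁻¹)) := by group
      _ = (t * q0 * t⁻¹)⁻¹ * q0 := by rw [hti, htt]; group
      _ = (q0⁻¹ * (t * q0 * t⁻¹))⁻¹ := by group
  · intro h
    apply hne
    calc t * q0 * t⁻¹ = q0 * (q0⁻¹ * (t * q0 * t⁻¹)) := by group
      _ = q0 := by rw [h, mul_one]

/-- conjugation by an element commuting with `t` preserves `I`. -/
theorem Inv.Iset_conj {c : X} (hc : c * t = t * c) {q : X} (hq : D.Iset t q) :
    D.Iset t (c * q * c⁻¹) := by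
  refine ⟨D.conj_mem_Q c hq.1, ?_⟩
  have hc' : t * c = c * t := hc.symm
  have hc'' : c⁻¹ * t⁻¹ = t⁻¹ * c⁻¹ := by
    rw [← mul_inv_rev, ← mul_inv_rev, hc']
  calc t * (c * q * c⁻¹) * t⁻¹ = (t * c) * q * (c⁻¹ * t⁻¹) := by group
    _ = (c * t) * q * (t⁻¹ * c⁻¹) := by rw [hc', hc'']
    _ = c * (t * q * t⁻¹) * c⁻¹ := by group
    _ = c * q⁻¹ * c⁻¹ := by rw [hq.2]
    _ = (c * q * c⁻¹)⁻¹ := by group

/-- for `i` with `i² = t` and `1 ≠ u ∈ I`, the conjugate `i u i⁻¹` does not commute with `u`. -/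
theorem Inv.noncomm {i : X} (hi : i * i = t) {u : X} (hu : D.Iset t u) (hu1 : u ≠ 1) :
    u * (i * u * i⁻¹) ≠ (i * u * i⁻¹) * u := by
  intro hcomm
  have hit : i * t = t * i := by rw [← hi]; group
  have hv : D.Iset t (i * u * i⁻¹) := ht.Iset_conj hit hu
  have huZ := ht.not_mem_Z hu hu1
  obtain ⟨k, w, hw, hvk⟩ := D.cent_eq hu.1 huZ hv.1 hcomm.symm
  have hw1 : w = 1 := ht.Iset_unique (hu.pow k) hw (by rw [← hvk]; exact hv)
  rw [hw1, mul_one] at hvk
  -- conjugate once more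
  have h1 : i * (i * u * i⁻¹) * i⁻¹ = u⁻¹ := by
    calc i * (i * u * i⁻¹) * i⁻¹ = (i * i) * u * (i * i)⁻¹ := by group
      _ = u⁻¹ := by rw [hi, hu.2]
  have h2 : i * (i * u * i⁻¹) * i⁻¹ = u ^ (k * k) := by
    have hpow : i * u ^ k * i⁻¹ = (i * u * i⁻¹) ^ k := by
      have := map_pow (MulAut.conj i) u k
      simpa [MulAut.conj_apply] using this
    rw [hvk, hpow, hvk, ← pow_mul]
  have h3 : u ^ (k * k + 1) = 1 := by
    rw [pow_succ, ← h2, h1, inv_mul_cancel]
  have ho : orderOf u = 3 := orderOf_eq_prime (D.hexp u hu.1) hu1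
  have hdvd : 3 ∣ k * k + 1 := by
    rw [← ho]; exact orderOf_dvd_of_pow_eq_one h3
  have hmod : (k * k + 1) % 3 = ((k % 3) * (k % 3) + 1) % 3 := by
    simp [Nat.add_mod, Nat.mul_mod]
  have hk3 : k % 3 < 3 := Nat.mod_lt _ (by norm_num)
  have := Nat.mod_eq_zero_of_dvd hdvd
  rw [hmod] at this
  interval_cases (k % 3) <;> simp at this

/-- **`t` inverts `Q/Z`.** -/
theorem Inv.inv_mod_Z {i : X} (hi : i * i = t) {q : X} (hq : q ∈ D.Q) :
    t * q * t⁻¹ * q ∈ D.Z := by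
  obtain ⟨u, hu, hu1⟩ := ht.exists_Iset
  have hit : i * t = t * i := by rw [← hi]; group
  have hv : D.Iset t (i * u * i⁻¹) := ht.Iset_conj hit hu
  have hnc := ht.noncomm hi hu hu1
  -- the subgroup of elements inverted modulo Z
  let S : Subgroup X :=
    { carrier := {q | q ∈ D.Q ∧ t * q * t⁻¹ * q ∈ D.Z}
      one_mem' := ⟨one_mem _, by simp⟩
      mul_mem' := by
        rintro a b ⟨ha, haz⟩ ⟨hb, hbz⟩
        refine ⟨mul_mem ha hb, ?_⟩
        have htb : t * b * t⁻¹ ∈ D.Q := D.conj_mem_Q t hb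
        have hc := D.hcomm _ htb _ ha
        set c : X := t * b * t⁻¹ * a * (t * b * t⁻¹)⁻¹ * a⁻¹ with hcdef
        have hta : t * a * t⁻¹ ∈ D.Q := D.conj_mem_Q t ha
        have hcc := D.hZc c hc _ hta
        have e : t * (a * b) * t⁻¹ * (a * b)
            = (t * a * t⁻¹ * c) * a * (t * b * t⁻¹ * b) := by
          rw [hcdef]; group
        rw [e, ← hcc]
        have e2 : c * (t * a * t⁻¹) * a * (t * b * t⁻¹ * b)
            = c * ((t * a * t⁻¹ * a) * (t * b * t⁻¹ * b)) := by group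
        rw [e2]
        exact mul_mem hc (mul_mem haz hbz)
      inv_mem' := by
        rintro a ⟨ha, haz⟩
        refine ⟨inv_mem ha, ?_⟩
        have hcz := D.hZc _ haz a ha
        have e : t * a⁻¹ * t⁻¹ * a⁻¹ = (a * (t * a * t⁻¹ * a) * a⁻¹)⁻¹ := by group
        rw [e, ← hcz]
        have e3 : t * a * t⁻¹ * a * a * a⁻¹ = t * a * t⁻¹ * a := by group
        rw [e3]
        exact inv_mem haz }
  have hSQ : S ≤ D.Q := fun x hx => hx.1
  have huS : u ∈ S := ⟨hu.1, by rw [hu.2, inv_mul_cancel]; exact one_mem _⟩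
  have hvS : i * u * i⁻¹ ∈ S := ⟨hv.1, by rw [hv.2, inv_mul_cancel]; exact one_mem _⟩
  have hS : S = D.Q := D.full27 S hSQ huS hvS hnc
  have : q ∈ S := by rw [hS]; exact hq
  exact this.2

/-- every element of `Q` is (element of `I`) times (element of `Z`). -/
theorem Inv.exists_decomp {i : X} (hi : i * i = t) {q : X} (hq : q ∈ D.Q) :
    ∃ r w, D.Iset t r ∧ w ∈ D.Z ∧ q = r * w := by
  have hw0 := ht.inv_mod_Z hi hq
  set w0 : X := t * q * t⁻¹ * q with hw0def
  have hw3 := D.Z_pow hw0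
  refine ⟨q * w0, w0⁻¹, ⟨mul_mem hq (D.hZQ hw0), ?_⟩, inv_mem hw0, by group⟩
  have htq : t * q * t⁻¹ = w0 * q⁻¹ := by rw [hw0def]; group
  have hcw : t * w0 = w0 * t := D.central t hw0
  have hqw : w0 * q⁻¹ = q⁻¹ * w0 := D.hZc w0 hw0 _ (inv_mem hq)
  have hw2 : w0 * w0 = w0⁻¹ := by
    rw [eq_inv_iff_mul_eq_one]
    calc w0 * w0 * w0 = w0 ^ 3 := by rw [pow_succ, pow_two]
      _ = 1 := hw3
  calc t * (q * w0) * t⁻¹ = (t * q * t⁻¹) * (t * w0) * t⁻¹ := by group
    _ = (w0 * q⁻¹) * (w0 * t) * t⁻¹ := by rw [htq, hcw]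
    _ = (q⁻¹ * w0) * w0 := by rw [hqw]; group
    _ = q⁻¹ * (w0 * w0) := by group
    _ = q⁻¹ * w0⁻¹ := by rw [hw2]
    _ = (w0 * q)⁻¹ := by group
    _ = (q * w0)⁻¹ := by rw [D.hZc w0 hw0 q hq]

/-- `C_Q(t) = Z`. -/
theorem Inv.cent_le_Z {i : X} (hi : i * i = t) {q : X} (hq : q ∈ D.Q) (hc : t * q = q * t) :
    q ∈ D.Z := by
  have h := ht.inv_mod_Z hi hq
  have e : t * q * t⁻¹ * q = q * q := by rw [hc]; group
  rw [e] at h
  have h3 := D.hexp q hq
  have : q = (q * q) * (q * q) := by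
    calc q = q ^ 3 * q := by rw [h3, one_mul]
      _ = (q * q) * (q * q) := by rw [pow_succ, pow_two]; simp only [mul_assoc]
  rw [this]
  exact mul_mem h h

/-- every element of `X` can be corrected by an element of `Q` so as to commute with `t`. -/
theorem Inv.liftC (x : X) : t⁻¹ * x⁻¹ * t * x ∈ D.Q ∧
    (x * (t⁻¹ * x⁻¹ * t * x)) * t = t * (x * (t⁻¹ * x⁻¹ * t * x)) := by
  have hq : t⁻¹ * x⁻¹ * t * x ∈ D.Q := by
    have := ht.comm_mem_Q x⁻¹
    have h2 := D.conj_mem_Q t⁻¹ this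
    have e : t⁻¹ * (x⁻¹ * t * x⁻¹⁻¹ * t⁻¹) * t⁻¹⁻¹ = t⁻¹ * x⁻¹ * t * x := by group
    rwa [e] at h2
  refine ⟨hq, ?_⟩
  set q' : X := t⁻¹ * x⁻¹ * t * x with hq'
  have hti := ht.inv_eq
  have htt := ht.sq
  -- t q' = x⁻¹ t x
  have h1 : t * q' = x⁻¹ * t * x := by rw [hq']; group
  have h2 : (t * q') * (t * q') = 1 := by
    rw [h1]
    calc x⁻¹ * t * x * (x⁻¹ * t * x) = x⁻¹ * (t * t) * x := by group
      _ = 1 := by rw [htt]; group
  -- q' t = t q'⁻¹
  have h3 : q' * t = t * q'⁻¹ := by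
    have : q' * t * q' = t⁻¹ := by
      have : t * (q' * t * q') = 1 := by
        calc t * (q' * t * q') = (t * q') * (t * q') := by group
          _ = 1 := h2
      exact eq_inv_of_mul_eq_one_right this
    calc q' * t = (q' * t * q') * q'⁻¹ := by group
      _ = t * q'⁻¹ := by rw [this, hti]
  have h4 : q'⁻¹ * q'⁻¹ = q' := by
    have h3' := D.hexp q' hq
    calc q'⁻¹ * q'⁻¹ = (q' ^ 3) * (q'⁻¹ * q'⁻¹) := by rw [h3', one_mul]
      _ = q' := by group
  calc x * q' * t = x * (q' * t) := by group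
    _ = x * (t * q'⁻¹) := by rw [h3]
    _ = x * t * q'⁻¹ := by group
    _ = x * (t * q') * (q'⁻¹ * q'⁻¹) := by group
    _ = x * (x⁻¹ * t * x) * q' := by rw [h1, h4]
    _ = t * (x * q') := by group

end XData

end Cfsg.Agent.Sp43C
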