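import Mathlib
import Cfsg.Agent.Sp43C.XSideB

/-!
# Abstract recognition of `3^{1+2}:SL₂(3)`, part C: the generators
-/

set_option autoImplicit false

namespace Cfsg.Agent.Sp43C

namespace XData

variable {X : Type*} [Group X] (D : XData X)

/-- what the elementary abelian subgroup of order 27 gives: an element `g` of order 3 outside `Q`
centralizing a noncentral element `a1` of `Q`. -/
structure EData (g a1 : X) : Prop where
  g3 : g ^ 3 = 1
  gimg : D.π g ≠ 1
  a1Q : a1 ∈ D.Q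
  a1Z : a1 ∉ D.Z
  comm : g * a1 = a1 * g

/-- the generators and their first properties -/
structure Gens (a b i d : X) : Prop where
  inv : D.Inv (i * i)
  aI : D.Iset (i * i) a
  a1 : a ≠ 1
  bdef : b = i * a * i⁻¹
  i4 : i ^ 4 = 1
  d3 : d ^ 3 = 1
  dt : d * (i * i) = (i * i) * d
  da : d * a * d⁻¹ = a
  dimg3 : (D.π d) ^ 3 = 1
  dimg1 : D.π d ≠ 1
  idimg : (D.π i * D.π d) ^ 3 = (D.π i) ^ 2

variable {D}

theorem exists_gens {g a1 : X} (hE : D.EData g a1) : ∃ a b i d : X, D.Gens a b i d := by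
  have hg03 : (D.π g) ^ 3 = 1 := by rw [← map_pow, hE.g3, map_one]
  obtain ⟨i0, hi04, hi0g, hi02⟩ := c648_sl_exists_i (D.π g) hg03 hE.gimg
  obtain ⟨x, hx⟩ := D.hπ i0
  have hx4 : x ^ 4 ∈ D.Q := by rw [D.mem_Q_iff, map_pow, hx, hi04]
  have hx12 : x ^ 12 = 1 := by
    have := D.hexp _ hx4
    rwa [← pow_mul] at this
  set i : X := x ^ 9 with hidef
  have hi4 : i ^ 4 = 1 := by
    rw [hidef, ← pow_mul]
    calc x ^ (9 * 4) = (x ^ 12) ^ 3 := by rw [← pow_mul]
      _ = 1 := by rw [hx12, one_pow]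
  have hiimg : D.π i = i0 := by
    rw [hidef, map_pow, hx]
    calc i0 ^ 9 = (i0 ^ 4) ^ 2 * i0 := by rw [← pow_mul, ← pow_succ]
      _ = i0 := by rw [hi04, one_pow, one_mul]
  set t : X := i * i with htdef
  have ht : D.Inv t := by
    refine ⟨?_, ?_⟩
    · calc t * t = i ^ 4 := by rw [htdef]; simp only [pow_succ, pow_zero, one_mul, mul_assoc]
        _ = 1 := hi4
    · rw [htdef, map_mul, hiimg, ← pow_two, hi02]
  have hii : i * i = t := rfl
  have hit : i * t = t * i := by rw [htdef]; group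
  -- the element a
  obtain ⟨a, w, haI, hw, ha1⟩ := ht.exists_decomp hii hE.a1Q
  have haZ : a ∉ D.Z := by
    intro h
    apply hE.a1Z
    rw [ha1]
    exact mul_mem h hw
  have hane : a ≠ 1 := by
    intro h
    apply haZ
    rw [h]; exact one_mem _
  have hga : g * a = a * g := by
    have hgw : g * w = w * g := D.central g hw
    have hgw' : g * w⁻¹ = w⁻¹ * g := by
      calc g * w⁻¹ = w⁻¹ * (w * g) * w⁻¹ := by group
        _ = w⁻¹ * (g * w) * w⁻¹ := by rw [hgw]
        _ = w⁻¹ * g := by group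
    have ha : a = a1 * w⁻¹ := by rw [ha1]; group
    rw [ha]
    calc g * (a1 * w⁻¹) = (g * a1) * w⁻¹ := by group
      _ = (a1 * g) * w⁻¹ := by rw [hE.comm]
      _ = a1 * (g * w⁻¹) := by group
      _ = a1 * (w⁻¹ * g) := by rw [hgw']
      _ = a1 * w⁻¹ * g := by group
  -- the element d
  obtain ⟨hq'Q, hdt⟩ := ht.liftC g
  set q' : X := t⁻¹ * g⁻¹ * t * g with hq'def
  set d : X := g * q' with hddef
  have hdimg : D.π d = D.π g := by
    rw [hddef, map_mul, (D.mem_Q_iff q').mp hq'Q, mul_one]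
  -- d centralizes a
  have hc := D.hcomm _ hq'Q _ haI.1
  set c : X := q' * a * q'⁻¹ * a⁻¹ with hcdef
  have hgc : g * c = c * g := D.central g hc
  have hdad : d * a * d⁻¹ = a * c := by
    have hca : c * a = a * c := D.hZc c hc a haI.1
    calc d * a * d⁻¹ = g * (q' * a * q'⁻¹ * a⁻¹ * a) * g⁻¹ := by rw [hddef]; group
      _ = g * (c * a) * g⁻¹ := by rw [← hcdef]
      _ = (g * c) * a * g⁻¹ := by group
      _ = (c * g) * a * g⁻¹ := by rw [hgc]
      _ = c * (g * a) * g⁻¹ := by group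
      _ = c * (a * g) * g⁻¹ := by rw [hga]
      _ = c * a := by group
      _ = a * c := hca
  have hc1 : c = 1 := by
    have := ht.Iset_conj hdt haI
    rw [hdad] at this
    exact ht.Iset_unique haI hc this
  have hda : d * a * d⁻¹ = a := by rw [hdad, hc1, mul_one]
  have hq'a : q' * a = a * q' := by
    have : q' * a * q'⁻¹ * a⁻¹ = 1 := by rw [← hcdef]; exact hc1
    calc q' * a = (q' * a * q'⁻¹ * a⁻¹) * a * q' := by group
      _ = a * q' := by rw [this, one_mul]
  -- d has order 3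
  obtain ⟨k, w', hw', hq'k⟩ := D.cent_eq haI.1 haZ hq'Q hq'a
  have hgq' : Commute g q' := by
    have h1 : Commute g (a ^ k) := (show Commute g a from hga).pow_right k
    have h2 : Commute g w' := D.central g hw'
    rw [hq'k]
    exact h1.mul_right h2
  have hd3 : d ^ 3 = 1 := by
    rw [hddef, hgq'.mul_pow, hE.g3, D.hexp _ hq'Q, one_mul]
  refine ⟨a, i * a * i⁻¹, i, d, ⟨ht, haI, hane, rfl, hi4, hd3, hdt, hda, ?_, ?_, ?_⟩⟩
  · rw [hdimg]; exact hg03
  · rw [hdimg]; exact hE.gimg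
  · rw [hdimg, hiimg]; exact hi0g

end XData

end Cfsg.Agent.Sp43C
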