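import Mathlib
import Cfsg.Agent.Sp43C.XSideC

/-!
# Abstract recognition of `3^{1+2}:SL₂(3)`, part D: the relations
-/

set_option autoImplicit false

namespace Cfsg.Agent.Sp43C

namespace XData

variable {X : Type*} [Group X] {D : XData X} {a b i d : X}

/-- elements of `C_X(t)` whose image has order dividing 3 have order dividing 3. -/
theorem Gens.cube (G : D.Gens a b i d) {c : X} (hct : c * (i * i) = (i * i) * c)
    (hc3 : (D.π c) ^ 3 = 1) : c ^ 3 = 1 := by
  set t : X := i * i with htdef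
  have ht : D.Inv t := G.inv
  have hii : i * i = t := rfl
  by_cases h1 : D.π c = 1
  · have hcQ : c ∈ D.Q := (D.mem_Q_iff c).mpr h1
    exact D.Z_pow (ht.cent_le_Z hii hcQ hct.symm)
  · -- general helper
    have key : ∀ d' : X, d' ^ 3 = 1 → d' * t = t * d' →
        (∃ s : SL23, D.π c = s * D.π d' * s⁻¹) → c ^ 3 = 1 := by
      intro d' hd'3 hd't ⟨s, hs⟩
      obtain ⟨x0, hx0⟩ := D.hπ s
      obtain ⟨hqQ, hxt⟩ := ht.liftC x0
      set x1 : X := x0 * (t⁻¹ * x0⁻¹ * t * x0) with hx1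
      have hx1img : D.π x1 = s := by
        rw [hx1, map_mul, (D.mem_Q_iff _).mp hqQ, mul_one, hx0]
      set e : X := x1 * d' * x1⁻¹ with hedef
      have he3 : e ^ 3 = 1 := by
        rw [hedef, conj_pow, hd'3]; group
      have het : e * t = t * e := by
        have h1 : x1⁻¹ * t = t * x1⁻¹ := by
          calc x1⁻¹ * t = x1⁻¹ * (t * x1) * x1⁻¹ := by group
            _ = x1⁻¹ * (x1 * t) * x1⁻¹ := by rw [hxt]
            _ = t * x1⁻¹ := by group
        calc e * t = x1 * d' * (x1⁻¹ * t) := by rw [hedef]; group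
          _ = x1 * d' * (t * x1⁻¹) := by rw [h1]
          _ = x1 * (d' * t) * x1⁻¹ := by group
          _ = x1 * (t * d') * x1⁻¹ := by rw [hd't]
          _ = (x1 * t) * d' * x1⁻¹ := by group
          _ = (t * x1) * d' * x1⁻¹ := by rw [hxt]
          _ = t * e := by rw [hedef]; group
      have hwQ : c * e⁻¹ ∈ D.Q := by
        rw [D.mem_Q_iff, map_mul, map_inv, hedef, map_mul, map_mul, map_inv, hx1img, hs]
        group
      have hwt : t * (c * e⁻¹) = (c * e⁻¹) * t := by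
        have h2 : e⁻¹ * t = t * e⁻¹ := by
          calc e⁻¹ * t = e⁻¹ * (t * e) * e⁻¹ := by group
            _ = e⁻¹ * (e * t) * e⁻¹ := by rw [het]
            _ = t * e⁻¹ := by group
        calc t * (c * e⁻¹) = (t * c) * e⁻¹ := by group
          _ = (c * t) * e⁻¹ := by rw [hct]
          _ = c * (t * e⁻¹) := by group
          _ = c * (e⁻¹ * t) := by rw [h2]
          _ = (c * e⁻¹) * t := by group
      have hwZ : c * e⁻¹ ∈ D.Z := ht.cent_le_Z hii hwQ hwt
      have hcomm : Commute (c * e⁻¹) e := (D.central e hwZ).symm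
      have hce : c = (c * e⁻¹) * e := by group
      rw [hce, hcomm.mul_pow, D.Z_pow hwZ, he3, one_mul]
    obtain ⟨s, hs⟩ := c648_sl_conj3 (D.π d) (D.π c) G.dimg3 G.dimg1 hc3 h1
    rcases hs with hs | hs
    · exact key d G.d3 G.dt ⟨s, hs⟩
    · refine key d⁻¹ ?_ ?_ ⟨s, by rw [map_inv]; exact hs⟩
      · rw [inv_pow, G.d3, inv_one]
      · have := G.dt
        calc d⁻¹ * t = d⁻¹ * (t * d) * d⁻¹ := by group
          _ = d⁻¹ * (d * t) * d⁻¹ := by rw [this]
          _ = t * d⁻¹ := by group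

/-- the relation `(i d)³ = i²`. -/
theorem Gens.id3 (G : D.Gens a b i d) : (i * d) ^ 3 = i ^ 2 := by
  set t : X := i * i with htdef
  have ht : D.Inv t := G.inv
  have hii : i * i = t := rfl
  have hit : Commute i t := by
    show i * t = t * i
    rw [htdef]; group
  have hdt : Commute d t := G.dt
  have hyt : Commute (i * d) t := hit.mul_left hdt
  set y : X := i * d with hydef
  -- y^12 = 1
  have hy12 : (y ^ 4) ^ 3 = 1 := by
    apply G.cube (hyt.pow_left 4)
    rw [map_pow, hydef, map_mul, ← pow_mul]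
    calc (D.π i * D.π d) ^ (4 * 3) = ((D.π i * D.π d) ^ 3) ^ 4 := by rw [← pow_mul]
      _ = ((D.π i) ^ 2) ^ 4 := by rw [G.idimg]
      _ = (D.π (i ^ 4)) ^ 2 := by rw [map_pow, ← pow_mul, ← pow_mul]
      _ = 1 := by rw [G.i4, map_one, one_pow]
  -- w1 := y^3 t⁻¹ is central
  have hw1Q : y ^ 3 * t⁻¹ ∈ D.Q := by
    rw [D.mem_Q_iff, map_mul, map_inv, map_pow, hydef, map_mul, G.idimg, htdef, map_mul,
      ← pow_two, mul_inv_cancel]
  have hw1t : t * (y ^ 3 * t⁻¹) = (y ^ 3 * t⁻¹) * t := by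
    have h3 : Commute (y ^ 3) t := hyt.pow_left 3
    calc t * (y ^ 3 * t⁻¹) = (t * y ^ 3) * t⁻¹ := by group
      _ = (y ^ 3 * t) * t⁻¹ := by rw [h3.eq]
      _ = (y ^ 3 * t⁻¹) * t := by group
  have hw1Z : y ^ 3 * t⁻¹ ∈ D.Z := ht.cent_le_Z hii hw1Q hw1t
  set w1 : X := y ^ 3 * t⁻¹ with hw1def
  have hy3 : y ^ 3 = w1 * t := by rw [hw1def]; group
  have hcomm : Commute w1 t := (D.central t hw1Z).symm
  have ht4 : t ^ 4 = 1 := by
    have h2 : t ^ 2 = 1 := by rw [pow_two]; exact ht.sq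
    calc t ^ 4 = (t ^ 2) ^ 2 := by rw [← pow_mul]
      _ = 1 := by rw [h2, one_pow]
  have hw14 : w1 ^ 4 = w1 := by
    calc w1 ^ 4 = w1 ^ 3 * w1 := by rw [← pow_succ]
      _ = w1 := by rw [D.Z_pow hw1Z, one_mul]
  have : w1 = 1 := by
    have h12 : (y ^ 3) ^ 4 = 1 := by
      rw [← pow_mul]
      rw [← pow_mul] at hy12
      exact hy12
    rw [hy3, hcomm.mul_pow, ht4, mul_one, hw14] at h12
    exact h12
  rw [hy3, this, one_mul, pow_two]

/-- further facts on the generators: `b ∈ I`, `[a,b] ≠ 1`, `⟨a,b⟩ = Q`. -/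
theorem Gens.bI (G : D.Gens a b i d) : D.Iset (i * i) b := by
  have hit : i * (i * i) = (i * i) * i := by group
  rw [G.bdef]
  exact G.inv.Iset_conj hit G.aI

theorem Gens.ib (G : D.Gens a b i d) : i * b * i⁻¹ = a⁻¹ := by
  rw [G.bdef]
  calc i * (i * a * i⁻¹) * i⁻¹ = (i * i) * a * (i * i)⁻¹ := by group
    _ = a⁻¹ := G.aI.2

theorem Gens.ab_ne (G : D.Gens a b i d) : a * b ≠ b * a := by
  rw [G.bdef]
  exact G.inv.noncomm rfl G.aI G.a1

theorem Gens.closure_ab (G : D.Gens a b i d) :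
    Subgroup.closure ({a, b} : Set X) = D.Q := by
  apply D.full27 _ _ (Subgroup.subset_closure (by simp : a ∈ ({a, b} : Set X)))
    (Subgroup.subset_closure (by simp : b ∈ ({a, b} : Set X))) G.ab_ne
  rw [Subgroup.closure_le]
  intro x hx
  simp only [Set.mem_insert_iff, Set.mem_singleton_iff] at hx
  rcases hx with rfl | rfl
  · exact G.aI.1
  · exact G.bI.1

theorem Gens.z_mem (G : D.Gens a b i d) : a * b * a⁻¹ * b⁻¹ ∈ D.Z :=
  D.hcomm a G.aI.1 b G.bI.1

theorem Gens.z_ne (G : D.Gens a b i d) : a * b * a⁻¹ * b⁻¹ ≠ 1 := by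
  intro h
  apply G.ab_ne
  calc a * b = (a * b * a⁻¹ * b⁻¹) * b * a := by group
    _ = b * a := by rw [h, one_mul]

/-- an element of `Q` commuting with `a` and `b` is central. -/
theorem Gens.mem_Z_of_comm (G : D.Gens a b i d) {r : X} (hr : r ∈ D.Q) (hra : r * a = a * r)
    (hrb : r * b = b * r) : r ∈ D.Z := by
  apply D.hZmax r hr
  intro u hu
  rw [← G.closure_ab] at hu
  have hle : Subgroup.closure ({a, b} : Set X) ≤ Subgroup.centralizer {r} := by
    rw [Subgroup.closure_le]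
    intro x hx
    simp only [Set.mem_insert_iff, Set.mem_singleton_iff] at hx
    rw [SetLike.mem_coe, Subgroup.mem_centralizer_iff]
    intro h hh
    rw [Set.mem_singleton_iff] at hh
    rcases hx with rfl | rfl
    · rw [hh]; exact hra
    · rw [hh]; exact hrb
  have := Subgroup.mem_centralizer_iff.mp (hle hu) r rfl
  exact this

/-- elements of `I` are determined by their commutators with `a` and `b`. -/
theorem Gens.I_unique (G : D.Gens a b i d) {c c' : X} (hc : D.Iset (i * i) c)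
    (hc' : D.Iset (i * i) c') (h1 : a * c * a⁻¹ * c⁻¹ = a * c' * a⁻¹ * c'⁻¹)
    (h2 : b * c * b⁻¹ * c⁻¹ = b * c' * b⁻¹ * c'⁻¹) : c = c' := by
  have comm_of : ∀ x : X, x * c * x⁻¹ * c⁻¹ = x * c' * x⁻¹ * c'⁻¹ →
      (c⁻¹ * c') * x = x * (c⁻¹ * c') := by
    intro x hx
    have h3 : c * x⁻¹ * c⁻¹ = c' * x⁻¹ * c'⁻¹ := by
      calc c * x⁻¹ * c⁻¹ = x⁻¹ * (x * c * x⁻¹ * c⁻¹) := by group
        _ = x⁻¹ * (x * c' * x⁻¹ * c'⁻¹) := by rw [hx]
        _ = c' * x⁻¹ * c'⁻¹ := by group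
    have h4 : (c⁻¹ * c') * x⁻¹ = x⁻¹ * (c⁻¹ * c') := by
      calc (c⁻¹ * c') * x⁻¹ = c⁻¹ * (c' * x⁻¹ * c'⁻¹) * c' := by group
        _ = c⁻¹ * (c * x⁻¹ * c⁻¹) * c' := by rw [h3]
        _ = x⁻¹ * (c⁻¹ * c') := by group
    calc (c⁻¹ * c') * x = x * (x⁻¹ * (c⁻¹ * c')) * x := by group
      _ = x * ((c⁻¹ * c') * x⁻¹) * x := by rw [h4]
      _ = x * (c⁻¹ * c') := by group
  have hrQ : c⁻¹ * c' ∈ D.Q := mul_mem (inv_mem hc.1) hc'.1
  have hrZ := G.mem_Z_of_comm hrQ (comm_of a h1) (comm_of b h2)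
  have hcc : c' = c * (c⁻¹ * c') := by group
  have := G.inv.Iset_unique hc hrZ (by rw [← hcc]; exact hc')
  rw [hcc, this, mul_one]

end XData

end Cfsg.Agent.Sp43C
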