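import Mathlib
import Cfsg.Agent.Sp43C.XSideD

/-!
# Abstract recognition of `3^{1+2}:SL₂(3)`, part E: the action of `d` on `b`, and the conclusion
-/

set_option autoImplicit false

namespace Cfsg.Agent.Sp43C

namespace XData

variable {X : Type*} [Group X] {D : XData X} {a b i d : X}

/-- the relation `d b d⁻¹ = a b [a,b]`. -/
theorem Gens.db (G : D.Gens a b i d) : d * b * d⁻¹ = a * b * (a * b * a⁻¹ * b⁻¹) := by
  set t : X := i * i with htdef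
  have ht : D.Inv t := G.inv
  set z : X := a * b * a⁻¹ * b⁻¹ with hzdef
  have hzZ : z ∈ D.Z := G.z_mem
  have hz1 : z ≠ 1 := G.z_ne
  have haQ : a ∈ D.Q := G.aI.1
  have hbQ : b ∈ D.Q := G.bI.1
  have hzQ : z ∈ D.Q := D.hZQ hzZ
  obtain ⟨φ, hφA, hφB⟩ := c648_h27_lift a b (D.hexp a haQ) (D.hexp b hbQ)
    (D.hexp _ (mul_mem haQ hbQ)) (D.hexp _ (mul_mem (mul_mem haQ hbQ) hbQ))
  have hta : t * a * t⁻¹ = a⁻¹ := G.aI.2
  have htb : t * b * t⁻¹ = b⁻¹ := G.bI.2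
  have hcz : ∀ x : X, x * z * x⁻¹ = z := by
    intro x
    have := D.central x hzZ
    calc x * z * x⁻¹ = (x * z) * x⁻¹ := by group
      _ = (z * x) * x⁻¹ := by rw [this]
      _ = z := by group
  set c : X := d * b * d⁻¹ with hcdef
  have hcI : D.Iset t c := ht.Iset_conj G.dt G.bI
  have hac : a * c * a⁻¹ * c⁻¹ = z := by
    have h1 : d * z * d⁻¹ = (d * a * d⁻¹) * (d * b * d⁻¹) * (d * a * d⁻¹)⁻¹ * (d * b * d⁻¹)⁻¹ := by
      rw [hzdef]; group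
    rw [G.da, hcz d] at h1
    exact h1.symm
  have heZ : b * c * b⁻¹ * c⁻¹ ∈ D.Z := D.hcomm b hbQ c hcI.1
  -- identities from the model
  have id1 : a⁻¹ * b⁻¹ * z = (a * b * z)⁻¹ := by
    have h := congrArg φ (show hA⁻¹ * hB⁻¹ * (hA * hB * hA⁻¹ * hB⁻¹)
      = (hA * hB * (hA * hB * hA⁻¹ * hB⁻¹))⁻¹ by decide)
    simpa only [map_mul, map_inv, hφA, hφB] using h
  have id2 : a * (a * b * z) * a⁻¹ * (a * b * z)⁻¹ = z := by
    have h := congrArg φ (show hA * (hA * hB * (hA * hB * hA⁻¹ * hB⁻¹)) * hA⁻¹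
      * (hA * hB * (hA * hB * hA⁻¹ * hB⁻¹))⁻¹ = hA * hB * hA⁻¹ * hB⁻¹ by decide)
    simpa only [map_mul, map_inv, hφA, hφB] using h
  have id3 : b * (a * b * z) * b⁻¹ * (a * b * z)⁻¹ = z⁻¹ := by
    have h := congrArg φ (show hB * (hA * hB * (hA * hB * hA⁻¹ * hB⁻¹)) * hB⁻¹
      * (hA * hB * (hA * hB * hA⁻¹ * hB⁻¹))⁻¹ = (hA * hB * hA⁻¹ * hB⁻¹)⁻¹ by decide)
    simpa only [map_mul, map_inv, hφA, hφB] using h
  have id4 : a * b⁻¹ * z⁻¹ = (a⁻¹ * b * z⁻¹)⁻¹ := by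
    have h := congrArg φ (show hA * hB⁻¹ * (hA * hB * hA⁻¹ * hB⁻¹)⁻¹
      = (hA⁻¹ * hB * (hA * hB * hA⁻¹ * hB⁻¹)⁻¹)⁻¹ by decide)
    simpa only [map_mul, map_inv, hφA, hφB] using h
  have id5 : a * (a⁻¹ * b * z⁻¹) * a⁻¹ * (a⁻¹ * b * z⁻¹)⁻¹ = z := by
    have h := congrArg φ (show hA * (hA⁻¹ * hB * (hA * hB * hA⁻¹ * hB⁻¹)⁻¹) * hA⁻¹
      * (hA⁻¹ * hB * (hA * hB * hA⁻¹ * hB⁻¹)⁻¹)⁻¹ = hA * hB * hA⁻¹ * hB⁻¹ by decide)
    simpa only [map_mul, map_inv, hφA, hφB] using h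
  have id6 : b * (a⁻¹ * b * z⁻¹) * b⁻¹ * (a⁻¹ * b * z⁻¹)⁻¹ = z := by
    have h := congrArg φ (show hB * (hA⁻¹ * hB * (hA * hB * hA⁻¹ * hB⁻¹)⁻¹) * hB⁻¹
      * (hA⁻¹ * hB * (hA * hB * hA⁻¹ * hB⁻¹)⁻¹)⁻¹ = hA * hB * hA⁻¹ * hB⁻¹ by decide)
    simpa only [map_mul, map_inv, hφA, hφB] using h
  have id7 : (b⁻¹ * a⁻¹ * z⁻¹)⁻¹ * b⁻¹ * z⁻¹ = a := by
    have h := congrArg φ (show (hB⁻¹ * hA⁻¹ * (hA * hB * hA⁻¹ * hB⁻¹)⁻¹)⁻¹ * hB⁻¹
      * (hA * hB * hA⁻¹ * hB⁻¹)⁻¹ = hA by decide)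
    simpa only [map_mul, map_inv, hφA, hφB] using h
  -- the two other candidates lie in I
  have hc1I : D.Iset t (a * b * z) := by
    refine ⟨mul_mem (mul_mem haQ hbQ) hzQ, ?_⟩
    calc t * (a * b * z) * t⁻¹ = (t * a * t⁻¹) * (t * b * t⁻¹) * (t * z * t⁻¹) := by group
      _ = a⁻¹ * b⁻¹ * z := by rw [hta, htb, hcz t]
      _ = (a * b * z)⁻¹ := id1
  have hc2I : D.Iset t (a⁻¹ * b * z⁻¹) := by
    refine ⟨mul_mem (mul_mem (inv_mem haQ) hbQ) (inv_mem hzQ), ?_⟩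
    calc t * (a⁻¹ * b * z⁻¹) * t⁻¹
        = (t * a * t⁻¹)⁻¹ * (t * b * t⁻¹) * (t * z * t⁻¹)⁻¹ := by group
      _ = a * b⁻¹ * z⁻¹ := by rw [hta, htb, hcz t, inv_inv]
      _ = (a⁻¹ * b * z⁻¹)⁻¹ := id4
  -- conjugation by y = i d
  set y : X := i * d with hydef
  have hy3 : y * y * y = t := by
    have := G.id3
    rw [pow_succ, pow_two, pow_two] at this
    exact this
  have hya : y * a * y⁻¹ = b := by
    calc y * a * y⁻¹ = i * (d * a * d⁻¹) * i⁻¹ := by rw [hydef]; group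
      _ = b := by rw [G.da, G.bdef]
  have hyb : y * b * y⁻¹ = i * c * i⁻¹ := by rw [hydef, hcdef]; group
  have hy3a : y * (y * (y * a * y⁻¹) * y⁻¹) * y⁻¹ = a⁻¹ := by
    calc y * (y * (y * a * y⁻¹) * y⁻¹) * y⁻¹ = (y * y * y) * a * (y * y * y)⁻¹ := by group
      _ = a⁻¹ := by rw [hy3, hta]
  rcases D.Z_gen hzZ hz1 heZ with he | he | he
  · -- c = b : impossible
    exfalso
    have hcb : c = b := by
      apply G.I_unique hcI G.bI
      · rw [hac]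
      · rw [he]; group
    rw [hya, hyb, hcb, G.ib] at hy3a
    have : y * a⁻¹ * y⁻¹ = b⁻¹ := by
      calc y * a⁻¹ * y⁻¹ = (y * a * y⁻¹)⁻¹ := by group
        _ = b⁻¹ := by rw [hya]
    rw [this] at hy3a
    have hba : b = a := inv_injective hy3a
    apply G.ab_ne
    rw [hba]
  · -- c = a⁻¹ b z⁻¹ : impossible
    exfalso
    have hcc : c = a⁻¹ * b * z⁻¹ := by
      apply G.I_unique hcI hc2I
      · rw [hac, id5]
      · rw [he, id6]
    have hic : i * c * i⁻¹ = b⁻¹ * a⁻¹ * z⁻¹ := by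
      rw [hcc]
      calc i * (a⁻¹ * b * z⁻¹) * i⁻¹ = (i * a * i⁻¹)⁻¹ * (i * b * i⁻¹) * (i * z * i⁻¹)⁻¹ := by
            group
        _ = b⁻¹ * a⁻¹ * z⁻¹ := by rw [← G.bdef, G.ib, hcz i]
    rw [hya, hyb, hic] at hy3a
    have h2 : y * (b⁻¹ * a⁻¹ * z⁻¹) * y⁻¹ = a := by
      calc y * (b⁻¹ * a⁻¹ * z⁻¹) * y⁻¹
          = (y * b * y⁻¹)⁻¹ * (y * a * y⁻¹)⁻¹ * (y * z * y⁻¹)⁻¹ := by group
        _ = (b⁻¹ * a⁻¹ * z⁻¹)⁻¹ * b⁻¹ * z⁻¹ := by rw [hyb, hic, hya, hcz y]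
        _ = a := id7
    rw [h2] at hy3a
    apply G.a1
    apply D.eq_one_of_sq haQ
    rw [pow_two]
    calc a * a = a * a⁻¹ := by rw [← hy3a]
      _ = 1 := mul_inv_cancel a
  · -- c = a b z
    apply G.I_unique hcI hc1I
    · rw [hac, id2]
    · rw [he, id3]

/-- the defining relations hold. -/
theorem Gens.rel (G : D.Gens a b i d) : Rel648 a b i d where
  a3 := D.hexp a G.aI.1
  b3 := D.hexp b G.bI.1
  ab3 := D.hexp _ (mul_mem G.aI.1 G.bI.1)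
  abb3 := D.hexp _ (mul_mem (mul_mem G.aI.1 G.bI.1) G.bI.1)
  i4 := G.i4
  d3 := G.d3
  id3 := G.id3
  ia := G.bdef.symm
  ib := G.ib
  da := G.da
  db := G.db

/-- the generators generate `X`. -/
theorem Gens.gen (G : D.Gens a b i d) : Subgroup.closure ({a, b, i, d} : Set X) = ⊤ := by
  set H : Subgroup X := Subgroup.closure ({a, b, i, d} : Set X) with hH
  have haH : a ∈ H := Subgroup.subset_closure (by simp)
  have hbH : b ∈ H := Subgroup.subset_closure (by simp)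
  have hiH : i ∈ H := Subgroup.subset_closure (by simp)
  have hdH : d ∈ H := Subgroup.subset_closure (by simp)
  have hQH : D.Q ≤ H := by
    rw [← G.closure_ab, Subgroup.closure_le]
    intro x hx
    simp only [Set.mem_insert_iff, Set.mem_singleton_iff] at hx
    rcases hx with rfl | rfl
    · exact haH
    · exact hbH
  have hi4 : (D.π i) ^ 4 = 1 := by rw [← map_pow, G.i4, map_one]
  have hi2 : (D.π i) ^ 2 = sM1 := by rw [pow_two, ← map_mul]; exact G.inv.img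
  have hgen := c648_sl_gen (D.π i) (D.π d) hi4 hi2 G.dimg3 G.dimg1
  have hmap : H.map D.π = ⊤ := by
    rw [eq_top_iff, ← hgen, Subgroup.closure_le]
    intro s hs
    simp only [Set.mem_insert_iff, Set.mem_singleton_iff] at hs
    rcases hs with rfl | rfl
    · exact ⟨i, hiH, rfl⟩
    · exact ⟨d, hdH, rfl⟩
  rw [eq_top_iff]
  intro x _
  have : D.π x ∈ H.map D.π := by rw [hmap]; trivial
  obtain ⟨y, hy, hyx⟩ := this
  have hq : x * y⁻¹ ∈ D.Q := by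
    rw [D.mem_Q_iff, map_mul, map_inv, hyx, mul_inv_cancel]
  have : x = (x * y⁻¹) * y := by group
  rw [this]
  exact mul_mem (hQH hq) hy

/-- every nontrivial normal subgroup contains `[a,b]`. -/
theorem Gens.min_normal (G : D.Gens a b i d) (N : Subgroup X) (hN : N.Normal) (hN1 : N ≠ ⊥) :
    a * b * a⁻¹ * b⁻¹ ∈ N := by
  set t : X := i * i with htdef
  have ht : D.Inv t := G.inv
  set z : X := a * b * a⁻¹ * b⁻¹ with hzdef
  have hzZ : z ∈ D.Z := G.z_mem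
  have hz1 : z ≠ 1 := G.z_ne
  by_contra hzN
  -- N ∩ Z = 1
  have hNZ : ∀ w ∈ D.Z, w ∈ N → w = 1 := by
    intro w hw hwN
    by_contra hw1
    rcases D.Z_gen hw hw1 hzZ with h | h | h
    · exact hz1 h
    · exact hzN (h ▸ hwN)
    · exact hzN (h ▸ inv_mem hwN)
  -- N ∩ Q = 1
  have hNQ : ∀ u ∈ D.Q, u ∈ N → u = 1 := by
    intro u hu huN
    have huZ : u ∈ D.Z := by
      apply D.hZmax u hu
      intro q hq
      have h1 : u * q * u⁻¹ * q⁻¹ ∈ D.Z := D.hcomm u hu q hq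
      have h2 : u * q * u⁻¹ * q⁻¹ ∈ N := by
        have := hN.conj_mem u⁻¹ (inv_mem huN) q
        have e : u * q * u⁻¹ * q⁻¹ = u * (q * u⁻¹ * q⁻¹) := by group
        rw [e]
        exact mul_mem huN this
      have h3 := hNZ _ h1 h2
      calc u * q = (u * q * u⁻¹ * q⁻¹) * q * u := by group
        _ = q * u := by rw [h3, one_mul]
    exact hNZ u huZ huN
  -- N centralizes Q
  have hNc : ∀ n ∈ N, ∀ q ∈ D.Q, n * q = q * n := by
    intro n hn q hq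
    have h1 : n * q * n⁻¹ * q⁻¹ ∈ D.Q := by
      have := D.conj_mem_Q n hq
      exact mul_mem this (inv_mem hq)
    have h2 : n * q * n⁻¹ * q⁻¹ ∈ N := by
      have := hN.conj_mem n⁻¹ (inv_mem hn) q
      have e : n * q * n⁻¹ * q⁻¹ = n * (q * n⁻¹ * q⁻¹) := by group
      rw [e]
      exact mul_mem hn this
    have h3 := hNQ _ h1 h2
    calc n * q = (n * q * n⁻¹ * q⁻¹) * q * n := by group
      _ = q * n := by rw [h3, one_mul]
  -- a nontrivial element of N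
  obtain ⟨n, hn, hn1⟩ : ∃ n ∈ N, n ≠ 1 := by
    by_contra hcon
    push Not at hcon
    apply hN1
    rw [eq_bot_iff]
    intro x hx
    rw [Subgroup.mem_bot]
    exact hcon x hx
  have hnimg : D.π n ≠ 1 := by
    intro h
    exact hn1 (hNQ n ((D.mem_Q_iff n).mpr h) hn)
  -- an element of N mapping to the central involution
  obtain ⟨m, hmN, hmimg⟩ : ∃ m ∈ N, D.π m = sM1 := by
    rcases c648_sl_normal_closure (D.π n) hnimg with h | h | h | ⟨s, hs⟩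
    · exact ⟨n, hn, h⟩
    · exact ⟨n ^ 2, pow_mem hn 2, by rw [map_pow, h]⟩
    · exact ⟨n ^ 3, pow_mem hn 3, by rw [map_pow, h]⟩
    · obtain ⟨x, rfl⟩ := D.hπ s
      refine ⟨(x * n * x⁻¹ * n⁻¹) ^ 2, pow_mem (mul_mem (hN.conj_mem n hn x) (inv_mem hn)) 2, ?_⟩
      rw [map_pow]
      simp only [map_mul, map_inv]
      exact hs
  -- m = t q with q in Q, and m centralizes a
  have hqQ : t⁻¹ * m ∈ D.Q := by
    rw [D.mem_Q_iff, map_mul, map_inv, ht.img, hmimg, inv_mul_cancel]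
  have hma := hNc m hmN a G.aI.1
  -- (t⁻¹ m) a (t⁻¹ m)⁻¹ = t⁻¹ a t = a⁻¹
  have h1 : (t⁻¹ * m) * a * (t⁻¹ * m)⁻¹ = a⁻¹ := by
    have hti := ht.inv_eq
    calc (t⁻¹ * m) * a * (t⁻¹ * m)⁻¹ = t⁻¹ * (m * a) * m⁻¹ * t := by group
      _ = t⁻¹ * (a * m) * m⁻¹ * t := by rw [hma]
      _ = t⁻¹ * a * t⁻¹⁻¹ := by group
      _ = t * a * t⁻¹ := by rw [inv_inv, hti]
      _ = a⁻¹ := G.aI.2
  -- but conjugation by an element of Q moves a by a central element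
  have h2 : (t⁻¹ * m) * a * (t⁻¹ * m)⁻¹ * a⁻¹ ∈ D.Z := D.hcomm _ hqQ a G.aI.1
  rw [h1] at h2
  -- so a⁻² ∈ Z, hence a ∈ Z
  have haZ : a ∈ D.Z := by
    have h3 := D.hexp a G.aI.1
    have : a = (a⁻¹ * a⁻¹) * a ^ 3 := by
      rw [pow_succ, pow_two]; group
    rw [this, h3, mul_one]
    exact h2
  exact ht.not_mem_Z G.aI G.a1 haZ

end XData

end Cfsg.Agent.Sp43C
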