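import Mathlib
import Cfsg.Prelude.Def_Solvable
import Cfsg.Prelude.Def_CaseTheorems
import Cfsg.Prelude.Def_Transfer
import Cfsg.Agent.Sp43C.XSideE

/-!
# Abstract recognition of `3^{1+2}:SL₂(3)`, part F: from the hypotheses of S3366 to generators
-/

set_option autoImplicit false

namespace Cfsg.Agent.Sp43C

open Cfsg

variable {X : Type*} [Group X] [Finite X]

/-- the abstract data attached to the hypotheses of S3366 -/
noncomputable def c648_xdata
    (hR : Cfsg.IsExtraspecial 3 (Cfsg.pCore 3 X)) (hRcard : Nat.card (Cfsg.pCore 3 X) = 27)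
    (hRexp : ∀ r ∈ Cfsg.pCore 3 X, r ^ 3 = 1)
    (e : X ⧸ Cfsg.pCore 3 X ≃* Matrix.SpecialLinearGroup (Fin 2) (ZMod 3))
    (hO2 : Cfsg.pCore 2 X = ⊥) : XData X where
  Q := Cfsg.pCore 3 X
  Z := (Subgroup.center (Cfsg.pCore 3 X)).map (Cfsg.pCore 3 X).subtype
  π := e.toMonoidHom.comp (QuotientGroup.mk' (Cfsg.pCore 3 X))
  hQn := inferInstance
  hQcard := hRcard
  hexp := hRexp
  hZQ := Subgroup.map_subtype_le _
  hZcard := by
    rw [Subgroup.card_subtype]
    exact hR.2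
  hZc := by
    intro w' hw' q hq
    obtain ⟨w, hw, rfl⟩ := Subgroup.mem_map.mp hw'
    have := (Subgroup.mem_center_iff.mp hw) ⟨q, hq⟩
    exact (congrArg Subtype.val this).symm
  hcomm := by
    intro u hu v hv
    have h1 := Subgroup.commutator_mem_commutator (H₁ := (⊤ : Subgroup (Cfsg.pCore 3 X)))
      (H₂ := ⊤) (Subgroup.mem_top (⟨u, hu⟩ : Cfsg.pCore 3 X)) (Subgroup.mem_top ⟨v, hv⟩)
    rw [← commutator_def, hR.1.2.2] at h1
    refine Subgroup.mem_map.mpr ⟨_, h1, ?_⟩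
    rw [commutatorElement_def]
    rfl
  hZmax := by
    intro q hq h
    refine Subgroup.mem_map.mpr ⟨⟨q, hq⟩, ?_, rfl⟩
    rw [Subgroup.mem_center_iff]
    rintro ⟨u, hu⟩
    exact Subtype.ext (h u hu).symm
  hπ := by
    intro s
    obtain ⟨y, hy⟩ := e.surjective s
    obtain ⟨x, rfl⟩ := QuotientGroup.mk'_surjective (Cfsg.pCore 3 X) y
    exact ⟨x, hy⟩
  hker := by
    ext x
    rw [MonoidHom.mem_ker]
    show e (QuotientGroup.mk' (Cfsg.pCore 3 X) x) = 1 ↔ _
    rw [MulEquiv.map_eq_one_iff, QuotientGroup.mk'_apply, QuotientGroup.eq_one_iff]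
  hO2 := by
    intro t ht2 htc
    have hn : (Subgroup.zpowers t).Normal := by
      constructor
      intro n hn x
      have hx : ∀ y ∈ Subgroup.zpowers t, x * y = y * x := by
        intro y hy
        obtain ⟨k, rfl⟩ := Subgroup.mem_zpowers_iff.mp hy
        exact (Commute.zpow_right (show Commute x t from htc x) k).eq
      rw [hx n hn, mul_inv_cancel_right]
      exact hn
    have hp : IsPGroup 2 (Subgroup.zpowers t) := by
      rintro ⟨y, hy⟩
      refine ⟨1, ?_⟩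
      obtain ⟨k, rfl⟩ := Subgroup.mem_zpowers_iff.mp hy
      apply Subtype.ext
      show (t ^ k) ^ 2 ^ 1 = 1
      rw [pow_one, ← zpow_natCast, ← zpow_mul, mul_comm, zpow_mul, zpow_natCast, ht2, one_zpow]
    have hle : Subgroup.zpowers t ≤ Cfsg.pCore 2 X := le_sSup ⟨hn, hp⟩
    rw [hO2] at hle
    exact (Subgroup.mem_bot).mp (hle (Subgroup.mem_zpowers t))

theorem c648_card_X
    (hRcard : Nat.card (Cfsg.pCore 3 X) = 27)
    (e : X ⧸ Cfsg.pCore 3 X ≃* Matrix.SpecialLinearGroup (Fin 2) (ZMod 3)) :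
    Nat.card X = 648 := by
  have h1 := (Cfsg.pCore 3 X).card_mul_index
  have h2 : (Cfsg.pCore 3 X).index = 24 := by
    rw [Subgroup.index_eq_card, Nat.card_congr e.toEquiv]
    exact c648_card_SL23
  rw [hRcard, h2] at h1
  rw [← h1]

/-- the element of order 3 outside `Q` given by the elementary abelian subgroup. -/
theorem c648_edata
    (hR : Cfsg.IsExtraspecial 3 (Cfsg.pCore 3 X)) (hRcard : Nat.card (Cfsg.pCore 3 X) = 27)
    (hRexp : ∀ r ∈ Cfsg.pCore 3 X, r ^ 3 = 1)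
    (e : X ⧸ Cfsg.pCore 3 X ≃* Matrix.SpecialLinearGroup (Fin 2) (ZMod 3))
    (hO2 : Cfsg.pCore 2 X = ⊥)
    (hE : ∃ E : Subgroup X, IsMulCommutative E ∧ (∀ a ∈ E, a ^ 3 = 1) ∧ Nat.card E = 27) :
    ∃ g a1 : X, (c648_xdata hR hRcard hRexp e hO2).EData g a1 := by
  classical
  set D := c648_xdata hR hRcard hRexp e hO2 with hD
  obtain ⟨E, hEc, hE3, hEcard⟩ := hE
  have hQ : D.Q = Cfsg.pCore 3 X := rfl
  have hidx : D.Q.index = 24 := by
    rw [hQ, Subgroup.index_eq_card, Nat.card_congr e.toEquiv]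
    exact c648_card_SL23
  haveI hQn : D.Q.Normal := D.hQn
  set r := D.Q.relIndex E with hr
  have hr24 : r ∣ 24 := by
    rw [← hidx]; exact Subgroup.relIndex_dvd_index_of_normal (H := D.Q) (K := E)
  have hr27 : r ∣ 27 := by
    rw [← hEcard]; exact Subgroup.relIndex_dvd_card D.Q E
  have hr3 : r ∣ 3 := by
    have := Nat.dvd_gcd hr24 hr27
    norm_num at this
    exact this
  have hprod : Nat.card (D.Q ⊓ E : Subgroup X) * r = 27 := by
    have h := Subgroup.relIndex_mul_relIndex (H := (⊥ : Subgroup X)) (K := D.Q ⊓ E) (L := E)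
      bot_le inf_le_right
    rw [Subgroup.relIndex_bot_left, Subgroup.relIndex_bot_left, Subgroup.inf_relIndex_right,
      hEcard] at h
    exact h
  have hcomm : ∀ u ∈ E, ∀ v ∈ E, u * v = v * u := by
    intro u hu v hv
    have := hEc.is_comm.comm (⟨u, hu⟩ : E) ⟨v, hv⟩
    exact congrArg Subtype.val this
  have hr1 : r ≠ 1 := by
    intro h1
    have hle : E ≤ D.Q := Subgroup.relIndex_eq_one.mp h1
    have hfinQ := D.finQ
    have hEQ : E = D.Q := Subgroup.eq_of_le_of_card_ge hle (by rw [hEcard, D.hQcard])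
    -- then Q is abelian, so Q ≤ Z
    have hQZ : D.Q ≤ D.Z := by
      intro q hq
      apply D.hZmax q hq
      intro u hu
      exact hcomm q (hEQ ▸ hq) u (hEQ ▸ hu)
    have := Subgroup.card_dvd_of_le hQZ
    rw [D.hQcard, D.hZcard] at this
    norm_num at this
  have hr3' : r = 3 := by
    rcases (Nat.dvd_prime Nat.prime_three).mp hr3 with h | h
    · exact absurd h hr1
    · exact h
  have hcardA : Nat.card (D.Q ⊓ E : Subgroup X) = 9 := by
    rw [hr3'] at hprod; omega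
  -- g
  obtain ⟨g, hgE, hgQ⟩ : ∃ g ∈ E, g ∉ D.Q := by
    by_contra hcon
    push Not at hcon
    apply hr1
    exact Subgroup.relIndex_eq_one.mpr hcon
  -- a1
  obtain ⟨a1, ha1, ha1Z⟩ : ∃ a1 ∈ (D.Q ⊓ E : Subgroup X), a1 ∉ D.Z := by
    by_contra hcon
    push Not at hcon
    have hle : (D.Q ⊓ E : Subgroup X) ≤ D.Z := hcon
    have := Subgroup.card_dvd_of_le hle
    rw [hcardA, D.hZcard] at this
    norm_num at this
  refine ⟨g, a1, ⟨hE3 g hgE, ?_, (Subgroup.mem_inf.mp ha1).1, ha1Z,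
    hcomm g hgE a1 (Subgroup.mem_inf.mp ha1).2⟩⟩
  intro h
  exact hgQ ((D.mem_Q_iff g).mpr h)

/-- **The abstract side of S3366**: generators of `X` satisfying the relations of `3^{1+2}:SL₂(3)`. -/
theorem c648_abstract
    (hR : Cfsg.IsExtraspecial 3 (Cfsg.pCore 3 X)) (hRcard : Nat.card (Cfsg.pCore 3 X) = 27)
    (hRexp : ∀ r ∈ Cfsg.pCore 3 X, r ^ 3 = 1)
    (e : X ⧸ Cfsg.pCore 3 X ≃* Matrix.SpecialLinearGroup (Fin 2) (ZMod 3))
    (hO2 : Cfsg.pCore 2 X = ⊥)
    (hE : ∃ E : Subgroup X, IsMulCommutative E ∧ (∀ a ∈ E, a ^ 3 = 1) ∧ Nat.card E = 27) :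
    ∃ a b i d : X, Rel648 a b i d ∧ Subgroup.closure ({a, b, i, d} : Set X) = ⊤ ∧
      Nat.card X = 648 ∧
      ∀ N : Subgroup X, N.Normal → N ≠ ⊥ → a * b * a⁻¹ * b⁻¹ ∈ N := by
  obtain ⟨g, a1, hEd⟩ := c648_edata hR hRcard hRexp e hO2 hE
  obtain ⟨a, b, i, d, G⟩ := XData.exists_gens hEd
  exact ⟨a, b, i, d, G.rel, G.gen, c648_card_X hRcard e, G.min_normal⟩

end Cfsg.Agent.Sp43C
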